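import Cfsg.Agent.Lib.SolvBase.QuasiPrimitive
import Cfsg.Agent.Lib.OddBase.Main

/-!
Five colours distinguish a solvable permutation group, and a solvable completely reducible linear group has three
vectors with trivial common stabiliser: proved together by induction.
-/

set_option autoImplicit false
set_option linter.unusedSectionVars false
set_option linter.style.haveILetI false
set_option linter.unusedSimpArgs false

namespace Cfsg.Lib.SolvBase

open MulAction Cfsg.Lib.OddBase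
open scoped Pointwise

universe u v

/-- A colouring with five colours distinguishing the action, for sets smaller than the bound. -/
def ColBelow (n : ℕ) : Prop :=
  ∀ (G Ω : Type v) [Group G] [Finite G] [Group.IsSolvable G] [Finite Ω] [MulAction G Ω],
    Nat.card Ω < n → ∃ f : Ω → Fin 5, ColRegular G f

/-- A regular triple, for modules smaller than the bound. -/
def ModBelow (n : ℕ) : Prop :=
  ∀ (A V : Type v) [Group A] [Finite A] [Group.IsSolvable A] [AddCommGroup V] [Finite V] [DistribMulAction A V],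
    Nat.card V < n → CompletelyReducible A V → ∃ t : Fin 3 → V, FamRegular A t

theorem completelyReducible_of_irreducible {A : Type v} {V : Type v} [Group A] [AddCommGroup V]
    [DistribMulAction A V] (h : Irreducible' A V) : CompletelyReducible A V := fun U hU => by
  rcases h U hU with rfl | rfl
  · exact ⟨⊤, fun _ _ _ => trivial, by simp, by simp⟩
  · exact ⟨⊥, fun a w hw => by rw [AddSubgroup.mem_bot.1 hw, smul_zero]; exact zero_mem _, by simp, by simp⟩

theorem exists_prime_nsmul {A : Type v} {V : Type v} [Group A] [AddCommGroup V] [Finite V] [Nontrivial V]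
    [DistribMulAction A V] (h : Irreducible' A V) : ∃ p : ℕ, p.Prime ∧ ∀ x : V, p • x = 0 := by
  obtain ⟨w, hw⟩ := exists_ne (0 : V)
  obtain ⟨r, hr, k, hk⟩ := Nat.exists_prime_and_dvd
    (fun h1 : addOrderOf w = 1 => hw (AddMonoid.addOrderOf_eq_one_iff.1 h1))
  let K : AddSubgroup V := (nsmulAddMonoidHom r : V →+ V).ker
  have hkw : k • w ∈ K := by
    show r • (k • w) = 0
    rw [← mul_nsmul', ← hk, addOrderOf_nsmul_eq_zero]
  have hK : K = ⊤ := (h K fun a v hv => by
    show r • (a • v) = 0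
    rw [smul_comm, show r • v = 0 from hv, smul_zero]).resolve_left fun h0 => by
      have h2 := addOrderOf_dvd_of_nsmul_eq_zero (AddSubgroup.mem_bot.1 (h0 ▸ hkw))
      rw [hk] at h2
      have hk0 : 0 < k := Nat.pos_of_ne_zero fun h3 => by
        rw [h3, mul_zero] at hk; exact (addOrderOf_pos w).ne' hk
      have := Nat.le_of_dvd hk0 h2
      nlinarith [hr.two_le]
  exact ⟨r, hr, fun x => (show x ∈ K from hK ▸ AddSubgroup.mem_top x)⟩

section Colourings

variable {G Ω : Type v} [Group G] [Finite G] [Group.IsSolvable G] [Finite Ω] [MulAction G Ω]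

theorem colour_on (hb : ColBelow.{v} (Nat.card Ω)) {S : Set Ω} (hS : ∀ g : G, ∀ x ∈ S, g • x ∈ S)
    (hne : S ≠ Set.univ) :
    ∃ f : Ω → Fin 5, ∀ g : G, (∀ x ∈ S, f (g • x) = f x) → ∀ x ∈ S, g • x = x := by
  classical
  let T : SubMulAction G Ω := ⟨S, fun g x hx => hS g x hx⟩
  obtain ⟨y, hy⟩ := (Set.ne_univ_iff_exists_notMem S).1 hne
  obtain ⟨f, hf⟩ := hb G T (Finite.card_subtype_lt (p := (· ∈ S)) hy)
  refine ⟨fun x => if h : x ∈ S then f ⟨x, h⟩ else 0, fun g hg x hx => ?_⟩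
  refine congrArg Subtype.val (hf g (fun z => ?_) ⟨x, hx⟩)
  have h1 := hg z z.2
  dsimp only at h1
  rw [dif_pos (hS g z z.2), dif_pos (show (z : Ω) ∈ S from z.2)] at h1
  exact h1

theorem colour_intransitive (hb : ColBelow.{v} (Nat.card Ω)) (h : ¬ IsPretransitive G Ω) :
    ∃ f : Ω → Fin 5, ColRegular G f := by
  classical
  obtain ⟨a, b, hab⟩ : ∃ a b : Ω, b ∉ orbit G a := by
    by_contra hc
    push Not at hc
    exact h ⟨hc⟩
  have hinv : ∀ (g : G) x, g • x ∈ orbit G a ↔ x ∈ orbit G a := fun g x =>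
    ⟨fun hx => by have := mem_orbit_of_mem_orbit g⁻¹ hx; rwa [inv_smul_smul] at this,
      mem_orbit_of_mem_orbit g⟩
  obtain ⟨f₁, h₁⟩ := colour_on (G := G) hb (S := orbit G a) (fun g x hx => (hinv g x).2 hx)
    (fun h => hab (h ▸ Set.mem_univ b))
  obtain ⟨f₂, h₂⟩ := colour_on (G := G) hb (S := (orbit G a)ᶜ) (fun g x hx h => hx ((hinv g x).1 h))
    (fun h => (Set.compl_ne_univ.2 ⟨a, mem_orbit_self a⟩) h)
  refine ⟨fun x => if x ∈ orbit G a then f₁ x else f₂ x, fun g hg x => ?_⟩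
  by_cases hx : x ∈ orbit G a
  · refine h₁ g (fun y hy => ?_) x hx
    have := hg y
    dsimp only at this
    rwa [if_pos ((hinv g y).2 hy), if_pos hy] at this
  · refine h₂ g (fun y hy => ?_) x hx
    have := hg y
    dsimp only at this
    rwa [if_neg (fun h => hy ((hinv g y).1 h)), if_neg hy] at this

theorem colour_imprimitive (hb : ColBelow.{v} (Nat.card Ω)) [IsPretransitive G Ω] {X : Set Ω} (hX : IsBlock G X)
    (hX1 : ¬ X.Subsingleton) (hX2 : X ≠ Set.univ) : ∃ f : Ω → Fin 5, ColRegular G f := by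
  classical
  obtain ⟨x₀, hx₀, x₁, hx₁, hne⟩ := Set.not_subsingleton_iff.1 hX1
  have heq : ∀ g g' : G, ∀ x, x ∈ g • X → x ∈ g' • X → g • X = g' • X := fun g g' x h h' => by
    by_contra hc
    exact Set.disjoint_left.1 (hX hc) h h'
  let Ψ := orbit G X
  have ht : ∀ Y : Ψ, ∃ t : G, t • X = (Y : Set Ω) := fun Y => Y.2
  choose t ht using ht
  have huniq : ∀ (Y Y' : Ψ) (x : Ω), x ∈ (Y : Set Ω) → x ∈ (Y' : Set Ω) → Y = Y' := fun Y Y' x h h' =>
    Subtype.ext (by rw [← ht Y] at h ⊢; rw [← ht Y'] at h' ⊢; exact heq _ _ x h h')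
  have hcov : ∀ x : Ω, ∃ Y : Ψ, x ∈ (Y : Set Ω) := fun x => by
    obtain ⟨g, rfl⟩ := exists_smul_eq G x₀ x
    exact ⟨⟨g • X, g, rfl⟩, Set.smul_mem_smul_set hx₀⟩
  choose π hπ using hcov
  have hlt : Nat.card Ψ < Nat.card Ω := by
    have hsurj : Function.Surjective π := fun Y => by
      refine ⟨t Y • x₀, huniq _ _ _ (hπ _) ?_⟩
      rw [← ht Y]; exact Set.smul_mem_smul_set hx₀
    refine lt_of_le_of_ne (Nat.card_le_card_of_surjective π hsurj) fun he => hne ?_
    have hbij := (Nat.bijective_iff_surjective_and_card π).2 ⟨hsurj, he.symm⟩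
    refine hbij.1 ?_
    have hXm : X ∈ Ψ := mem_orbit_self X
    rw [huniq _ ⟨X, hXm⟩ _ (hπ x₀) hx₀, huniq _ ⟨X, hXm⟩ _ (hπ x₁) hx₁]
  obtain ⟨D, hD⟩ := hb G Ψ hlt
  let T : SubMulAction (stabilizer G X) Ω := ⟨X, fun h x hx => by
    have := Set.smul_mem_smul_set (a := (h : G)) hx
    rwa [mem_stabilizer_iff.1 h.2] at this⟩
  obtain ⟨y, hy⟩ := (Set.ne_univ_iff_exists_notMem X).1 hX2
  obtain ⟨f₀, hf₀⟩ := hb (stabilizer G X) T (Finite.card_subtype_lt (p := (· ∈ X)) hy)
  haveI : Nonempty T := ⟨⟨x₀, hx₀⟩⟩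
  obtain ⟨F, hF, hFne⟩ := five_colourings hf₀
  have hmem : ∀ x, (t (π x))⁻¹ • x ∈ X := fun x => by
    have := hπ x
    rw [← ht (π x), Set.mem_smul_set_iff_inv_smul_mem] at this
    exact this
  refine ⟨fun x => F (D (π x)) ⟨_, hmem x⟩, fun g hg x => ?_⟩
  have hh : ∀ Y : Ψ, (t (g • Y))⁻¹ * g * t Y ∈ stabilizer G X := fun Y => by
    rw [mem_stabilizer_iff, mul_smul, mul_smul, ht, inv_smul_eq_iff, ht, orbit.coe_smul]
  have hval : ∀ (w : Ω) (Y : Ψ) (z : T), π w = Y → (t Y)⁻¹ • w = (z : Ω) →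
      F (D (π w)) ⟨(t (π w))⁻¹ • w, hmem w⟩ = F (D Y) z := by
    rintro w _ z rfl hz
    exact congrArg _ (Subtype.ext hz)
  have key : ∀ (Y : Ψ) (z : T), F (D (g • Y)) ((⟨_, hh Y⟩ : stabilizer G X) • z) = F (D Y) z := by
    intro Y z
    have hy1 : t Y • (z : Ω) ∈ (Y : Set Ω) := by rw [← ht Y]; exact Set.smul_mem_smul_set z.2
    have hy2 : g • t Y • (z : Ω) ∈ ((g • Y : Ψ) : Set Ω) := by
      rw [orbit.coe_smul]; exact Set.smul_mem_smul_set hy1
    have h1 := hg (t Y • (z : Ω))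
    have e1 : π (t Y • (z : Ω)) = Y := huniq _ _ _ (hπ _) hy1
    have e2 : π (g • t Y • (z : Ω)) = g • Y := huniq _ _ _ (hπ _) hy2
    dsimp only at h1
    rwa [hval _ Y z e1 (inv_smul_smul _ _), hval _ (g • Y) ((⟨_, hh Y⟩ : stabilizer G X) • z) e2 (by
      show _ = ((t (g • Y))⁻¹ * g * t Y) • (z : Ω)
      rw [mul_smul, mul_smul])] at h1
  have hfix : ∀ Y : Ψ, g • Y = Y := hD g fun Y => hFne _ _ _ (key Y)
  obtain ⟨Y, z, rfl⟩ : ∃ (Y : Ψ) (z : T), t Y • (z : Ω) = x := ⟨π x, ⟨_, hmem x⟩, smul_inv_smul _ x⟩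
  have hst := hh Y
  have hk := key Y
  simp only [hfix Y] at hst hk
  have h1 := hF (D Y) ⟨_, hst⟩ hk z
  have h2 : ((t Y)⁻¹ * g * t Y) • (z : Ω) = z := congrArg Subtype.val h1
  rwa [mul_smul, mul_smul, inv_smul_eq_iff] at h2

theorem singleton_colour {α : Type v} [DecidableEq α] (a b c d : α) :
    let f : α → Fin 5 := fun y => if y = a then 0 else if y = b then 1 else if y = c then 2 else
      if y = d then 3 else 4
    (∀ y y', f y' = f y → f y ≠ 4 → y' = y) ∧ f a ≠ 4 ∧ f b ≠ 4 ∧ f c ≠ 4 ∧ f d ≠ 4 := by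
  intro f
  refine ⟨fun y y' h h4 => ?_, ?_, ?_, ?_, ?_⟩
  · simp only [f] at h h4
    split_ifs at h h4 <;> simp_all
  all_goals (simp only [f]; split_ifs <;> simp_all)

theorem colour_primitive (hm : ModBelow.{v} (Nat.card Ω + 1)) [FaithfulSMul G Ω]
    (hprim : IsPreprimitive G Ω) : ∃ f : Ω → Fin 5, ColRegular G f := by
  classical
  by_cases hG : Subsingleton G
  · exact ⟨fun _ => 0, fun g _ x => by rw [Subsingleton.elim g 1, one_smul]⟩
  haveI := not_subsingleton_iff_nontrivial.1 hG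
  obtain ⟨M, hM, -⟩ := Cfsg.Lib.Core.exists_isMinNormal (G := G) (N := ⊤) inferInstance top_ne_bot
  haveI := hM.1
  obtain ⟨hab, htr, hst, -⟩ := Cfsg.Lib.Solv.primitive_regular hprim hM.2.1 hM.2.2
  haveI := hab
  letI : CommGroup M := { (inferInstance : Group M) with mul_comm := mul_comm' }
  haveI : Nonempty Ω := by
    by_contra h
    rw [not_nonempty_iff] at h
    obtain ⟨g, hg⟩ := exists_ne (1 : G)
    exact hg (eq_of_smul_eq_smul fun ω : Ω => isEmptyElim ω)
  obtain ⟨x₀⟩ := ‹Nonempty Ω›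
  let e : M → Ω := fun m => m • x₀
  have he : Function.Bijective e := by
    refine ⟨fun a b h => ?_, fun y => htr.exists_smul_eq x₀ y⟩
    have : b⁻¹ * a ∈ stabilizer M x₀ := by
      rw [mem_stabilizer_iff, mul_smul, inv_smul_eq_iff]; exact h
    rw [hst, Subgroup.mem_bot, inv_mul_eq_one] at this
    exact this.symm
  let c : stabilizer G x₀ →* MulAut M := (MulAut.conjNormal : G →* MulAut M).comp (stabilizer G x₀).subtype
  letI : DistribMulAction (stabilizer G x₀) (Additive M) :=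
    { smul := fun h v => Additive.ofMul (c h (Additive.toMul v))
      one_smul := fun v => by
        show Additive.ofMul (c 1 (Additive.toMul v)) = v
        rw [map_one]; rfl
      mul_smul := fun h k v => by
        show Additive.ofMul (c (h * k) (Additive.toMul v)) = Additive.ofMul (c h (c k (Additive.toMul v)))
        rw [map_mul]; rfl
      smul_zero := fun h => congrArg Additive.ofMul (map_one (c h))
      smul_add := fun h v w => congrArg Additive.ofMul (map_mul (c h) _ _) }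
  have hsmul : ∀ (h : stabilizer G x₀) (v : Additive M),
      ((Additive.toMul (h • v) : M) : G) = (h : G) * (Additive.toMul v : M) * (h : G)⁻¹ :=
    fun h v => MulAut.conjNormal_apply _ _
  have hge : ∀ (h : stabilizer G x₀) (v : Additive M),
      (h : G) • e (Additive.toMul v) = e (Additive.toMul (h • v)) := fun h v => by
    show (h : G) • ((Additive.toMul v : M) : G) • x₀ = ((Additive.toMul (h • v) : M) : G) • x₀
    rw [hsmul, mul_smul, mul_smul]
    congr 2
    exact (inv_smul_eq_iff.2 (mem_stabilizer_iff.1 h.2).symm).symm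
  have hirr : Irreducible' (stabilizer G x₀) (Additive M) := by
    intro K hK
    let K' : Subgroup G :=
      { carrier := {g | ∃ hg : g ∈ M, Additive.ofMul (⟨g, hg⟩ : M) ∈ K}
        one_mem' := ⟨one_mem M, K.zero_mem⟩
        mul_mem' := fun {a b} ⟨ha, ha'⟩ ⟨hb, hb'⟩ => ⟨mul_mem ha hb, K.add_mem ha' hb'⟩
        inv_mem' := fun {a} ⟨ha, ha'⟩ => ⟨inv_mem ha, K.neg_mem ha'⟩ }
    have hK'n : K'.Normal := ⟨by
      rintro k ⟨hk, hk'⟩ g
      obtain ⟨m, hm₀⟩ := he.2 (g • x₀)
      have hh : (m : G)⁻¹ * g ∈ stabilizer G x₀ := by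
        rw [mem_stabilizer_iff, mul_smul, ← hm₀]
        exact inv_smul_smul (m : G) x₀
      have h1 := hK ⟨_, hh⟩ _ hk'
      refine ⟨hM.1.conj_mem k hk g, ?_⟩
      convert h1 using 2
      apply congrArg (fun x : M => x)
      refine Subtype.ext ?_
      show g * k * g⁻¹ = ((c ⟨_, hh⟩ ⟨k, hk⟩ : M) : G)
      have h2 := congrArg Subtype.val (mul_comm m (c ⟨_, hh⟩ ⟨k, hk⟩))
      simp only [Subgroup.coe_mul] at h2
      have h3 : ((c ⟨_, hh⟩ ⟨k, hk⟩ : M) : G) = ((m : G)⁻¹ * g) * k * ((m : G)⁻¹ * g)⁻¹ :=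
        MulAut.conjNormal_apply _ _
      calc g * k * g⁻¹ = (m : G) * (((m : G)⁻¹ * g) * k * ((m : G)⁻¹ * g)⁻¹) * (m : G)⁻¹ := by group
        _ = _ := by rw [← h3, h2, mul_inv_cancel_right]⟩
    rcases hM.2.2 K' hK'n (fun g hg => hg.1) with h | h
    · left
      refine eq_bot_iff.2 fun v hv => AddSubgroup.mem_bot.2 ?_
      have : ((Additive.toMul v : M) : G) ∈ K' := ⟨(Additive.toMul v : M).2, hv⟩
      rw [h, Subgroup.mem_bot] at this
      exact congrArg Additive.ofMul (Subtype.ext this : (Additive.toMul v : M) = 1)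
    · right
      refine eq_top_iff.2 fun v _ => ?_
      have : ((Additive.toMul v : M) : G) ∈ K' := by rw [h]; exact (Additive.toMul v : M).2
      exact this.2
  have hcardM : Nat.card (Additive M) = Nat.card Ω := (Nat.card_congr Additive.toMul).trans (Nat.card_eq_of_bijective e he)
  obtain ⟨τ, hτ⟩ := hm (stabilizer G x₀) (Additive M) (by omega) (completelyReducible_of_irreducible hirr)
  let p : Fin 3 → Ω := fun k => e (Additive.toMul (τ k))
  let f : Ω → Fin 5 := fun y => if y = x₀ then 0 else if y = p 0 then 1 else if y = p 1 then 2 else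
    if y = p 2 then 3 else 4
  obtain ⟨hsingle, hx₀4, hp0, hp1, hp2⟩ := singleton_colour x₀ (p 0) (p 1) (p 2)
  refine ⟨f, fun g hg y => ?_⟩
  have hfx : ∀ y, f y ≠ 4 → g • y = y := fun y hy => hsingle _ _ (hg y) hy
  have hg₀ : g • x₀ = x₀ := hfx x₀ hx₀4
  obtain ⟨m, rfl⟩ := he.2 y
  rw [show m = Additive.toMul (Additive.ofMul m) from rfl, hge ⟨g, hg₀⟩]
  congr 1
  refine congrArg Additive.toMul (hτ ⟨g, hg₀⟩ (fun k => ?_) _)
  have hk : f (p k) ≠ 4 := by
    rcases (by decide : ∀ k : Fin 3, k = 0 ∨ k = 1 ∨ k = 2) k with rfl | rfl | rfl <;> assumption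
  have h1 := hfx _ hk
  simp only [p] at h1
  rw [hge ⟨g, hg₀⟩] at h1
  exact Additive.toMul.injective (he.1 h1)

end Colourings

section Modules

variable {A V : Type v} [Group A] [Finite A] [Group.IsSolvable A] [AddCommGroup V] [Finite V]
  [DistribMulAction A V]

theorem imprimitive_triple [FaithfulSMul A V] (hbm : ModBelow.{v} (Nat.card V))
    (hbc : ColBelow.{v} (Nat.card V)) (hirr : Irreducible' A V) {p : ℕ} [Fact p.Prime]
    (hp : ∀ x : V, p • x = 0) {B : Subgroup A} (hBn : B.Normal) (hBab : IsMulCommutative B) {b₀ : A}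
    (hb₀ : b₀ ∈ B) (hb₁ : b₀ ≠ 1) {u₀ : V} (hu₀ : u₀ ≠ 0) (hfix₀ : b₀ • u₀ = u₀) :
    ∃ t : Fin 3 → V, FamRegular A t := by
  classical
  have hcm : ∀ a ∈ B, ∀ b ∈ B, Commute a b := fun a ha b hb =>
    congrArg Subtype.val (mul_comm' (⟨a, ha⟩ : B) ⟨b, hb⟩)
  obtain ⟨B₀, hB₀⟩ := Set.Finite.exists_maximal
    (s := {K : Subgroup A | b₀ ∈ K ∧ K ≤ B ∧ fixAdd V K ≠ ⊥}) (Set.toFinite _)
    ⟨Subgroup.zpowers b₀, Subgroup.mem_zpowers b₀, Subgroup.zpowers_le.2 hb₀, fun h => hu₀
      (AddSubgroup.mem_bot.1 (h ▸ (show u₀ ∈ fixAdd V (Subgroup.zpowers b₀) from fun c hc =>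
        (Subgroup.zpowers_le (H := stabilizer A u₀)).2 hfix₀ hc)))⟩
  obtain ⟨hb₀B₀, hB₀B, hX₀⟩ := hB₀.prop
  set X₀ := fixAdd V B₀ with hX₀def
  haveI := Fintype.ofFinite B₀
  let e₀ : V →+ V :=
    { toFun := fun w => ∑ b : B₀, (b : A) • w
      map_zero' := by simp
      map_add' := fun x y => by simp [smul_add, Finset.sum_add_distrib] }
  have hecomm : ∀ c ∈ B, ∀ w : V, c • e₀ w = e₀ (c • w) := fun c hc w => by
    show c • ∑ b : B₀, (b : A) • w = ∑ b : B₀, (b : A) • c • w
    rw [Finset.smul_sum]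
    exact Finset.sum_congr rfl fun b _ => by rw [smul_smul, smul_smul, (hcm c hc b (hB₀B b.2)).eq]
  have he₀mem : ∀ w, e₀ w ∈ X₀ := fun w c hc => by
    show c • ∑ b : B₀, (b : A) • w = ∑ b : B₀, (b : A) • w
    rw [Finset.smul_sum]
    simp only [smul_smul]
    exact Equiv.sum_comp (Equiv.mulLeft (⟨c, hc⟩ : B₀)) (fun b : B₀ => (b : A) • w)
  have he₀X : ∀ w ∈ X₀, e₀ w = Nat.card B₀ • w := fun w hw => by
    show ∑ b : B₀, (b : A) • w = _
    rw [Finset.sum_congr rfl (fun (b : B₀) _ => hw (b : A) b.2), Finset.sum_const, Finset.card_univ,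
      Nat.card_eq_fintype_card]
  have hinj : ∀ w : V, Nat.card B₀ • w = 0 → w = 0 := fun w hw => by
    refine nsmul_card_eq_zero_imp hirr hBn hBab ?_
    obtain ⟨m, hm⟩ := Subgroup.card_dvd_of_le hB₀B
    rw [hm, mul_nsmul, hw, smul_zero]
  have hkill : ∀ s : A, s • X₀ ≠ X₀ → ∀ y ∈ s • X₀, e₀ y = 0 := by
    intro s hs y hy
    by_contra hne
    set B₁ := B₀.map (MulAut.conj s).toMonoidHom with hB₁
    have hB₁B : B₁ ≤ B := by
      rintro _ ⟨b, hb, rfl⟩
      exact hBn.conj_mem b (hB₀B hb) s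
    rw [hX₀def, smul_fixAdd, ← hB₁] at hy
    have hsup : e₀ y ∈ fixAdd V (B₀ ⊔ B₁) := by
      intro c hc
      have hle : B₀ ⊔ B₁ ≤ stabilizer A (e₀ y) := sup_le (fun c hc => he₀mem y c hc)
        (fun c hc => by rw [mem_stabilizer_iff, hecomm c (hB₁B hc), hy c hc])
      exact hle hc
    have hle : B₀ ⊔ B₁ ≤ B₀ := hB₀.le_of_ge
      ⟨(le_sup_left : B₀ ≤ B₀ ⊔ B₁) hb₀B₀, sup_le hB₀B hB₁B, fun h => hne (AddSubgroup.mem_bot.1 (h ▸ hsup))⟩
      le_sup_left
    have hcard : Nat.card B₁ = Nat.card B₀ := Subgroup.card_map_of_injective (MulAut.conj s).injective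
    have heq : B₁ = B₀ := Subgroup.eq_of_le_of_card_ge (le_sup_right.trans hle) hcard.ge
    exact hs (by rw [hX₀def, smul_fixAdd, ← hB₁, heq])
  let Ψ := orbit A X₀
  have ht : ∀ Y : Ψ, ∃ t : A, t • X₀ = (Y : AddSubgroup V) := fun Y => Y.2
  choose t ht using ht
  haveI := Fintype.ofFinite Ψ
  have hmemY : ∀ (Y : Ψ) (x : V), x ∈ X₀ → t Y • x ∈ (Y : AddSubgroup V) := fun Y x hx => by
    rw [← ht Y]; exact AddSubgroup.smul_mem_pointwise_smul _ _ _ hx
  have hYmem : ∀ (Y : Ψ) (y : V), y ∈ (Y : AddSubgroup V) → (t Y)⁻¹ • y ∈ X₀ := fun Y y hy => by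
    rwa [← ht Y, AddSubgroup.mem_pointwise_smul_iff_inv_smul_mem] at hy
  have hindep : ∀ G : Ψ → V, (∀ Y : Ψ, G Y ∈ (Y : AddSubgroup V)) → ∑ Y : Ψ, G Y = 0 → ∀ Y, G Y = 0 := by
    intro G hG hsum Y
    have h := congrArg (fun w => e₀ ((t Y)⁻¹ • w)) hsum
    simp only [smul_zero, map_zero, Finset.smul_sum, map_sum] at h
    rw [Finset.sum_eq_single Y (fun Z _ hne => ?_) (fun h => absurd (Finset.mem_univ Y) h),
      he₀X _ (hYmem Y _ (hG Y))] at h
    · have := hinj _ h
      simpa using congrArg (t Y • ·) this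
    · refine hkill ((t Y)⁻¹ * t Z) (fun hh => hne (Subtype.ext ?_)) _ ?_
      · rw [mul_smul, inv_smul_eq_iff, ht, ht] at hh
        exact hh
      · rw [mul_smul, ht]
        exact AddSubgroup.smul_mem_pointwise_smul _ _ _ (hG Z)
  have hspan : (⨆ Y : Ψ, (Y : AddSubgroup V)) = ⊤ := by
    refine (hirr _ fun a w hw => ?_).resolve_left fun h => hX₀ ?_
    · refine AddSubgroup.iSup_induction _ (C := fun w => a • w ∈ ⨆ Y : Ψ, (Y : AddSubgroup V)) hw ?_ ?_ ?_
      · intro Y y hy
        refine AddSubgroup.mem_iSup_of_mem (a • Y) ?_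
        rw [orbit.coe_smul]
        exact AddSubgroup.smul_mem_pointwise_smul _ _ _ hy
      · simp only [smul_zero]; exact zero_mem _
      · intro x y hx hy; simp only [smul_add]; exact add_mem hx hy
    · exact eq_bot_iff.2 (h ▸ le_iSup (fun Y : Ψ => (Y : AddSubgroup V)) ⟨X₀, mem_orbit_self X₀⟩)
  let H := stabilizer A X₀
  have hHX : ∀ h : H, ∀ x ∈ X₀, h • x ∈ X₀ := fun h x hx => by
    have := AddSubgroup.smul_mem_pointwise_smul x (h : A) X₀ hx
    rwa [mem_stabilizer_iff.1 h.2] at this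
  letI := subAct X₀ hHX
  have hHirr : Irreducible' H X₀ := by
    intro Y hY
    by_cases hY0 : Y = ⊥
    · exact Or.inl hY0
    right
    set Y' := Y.map X₀.subtype with hY'
    have hW : (⨆ a : A, a • Y') = ⊤ := by
      refine (hirr _ fun a w hw => ?_).resolve_left fun h => hY0 ?_
      · refine AddSubgroup.iSup_induction _ (C := fun w => a • w ∈ ⨆ c : A, c • Y') hw ?_ ?_ ?_
        · intro c y hy
          refine AddSubgroup.mem_iSup_of_mem (a * c) ?_
          rw [mul_smul]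
          exact AddSubgroup.smul_mem_pointwise_smul _ _ _ hy
        · simp only [smul_zero]; exact zero_mem _
        · intro x y hx hy; simp only [smul_add]; exact add_mem hx hy
      · have h1 : (1 : A) • Y' ≤ ⊥ := h ▸ le_iSup (fun a : A => a • Y') 1
        rw [one_smul] at h1
        refine eq_bot_iff.2 fun y hy => AddSubgroup.mem_bot.2 (Subtype.ext ?_)
        exact AddSubgroup.mem_bot.1 (h1 ⟨y, hy, rfl⟩)
    have himg : ∀ w : V, e₀ w ∈ Y' := by
      intro w
      have hw : w ∈ ⨆ a : A, a • Y' := hW ▸ AddSubgroup.mem_top w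
      refine AddSubgroup.iSup_induction _ (C := fun w => e₀ w ∈ Y') hw ?_ ?_ ?_
      · intro c y hy
        rw [AddSubgroup.mem_pointwise_smul_iff_inv_smul_mem] at hy
        obtain ⟨y', hy', hyy⟩ := hy
        change (y' : V) = c⁻¹ • y at hyy
        have hyX : y ∈ c • X₀ := by
          rw [AddSubgroup.mem_pointwise_smul_iff_inv_smul_mem, ← hyy]; exact y'.2
        by_cases hc : c • X₀ = X₀
        · rw [hc] at hyX
          rw [he₀X y hyX]
          refine nsmul_mem ?_ _
          refine ⟨(⟨c, hc⟩ : H) • y', hY _ y' hy', ?_⟩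
          show c • (y' : V) = y
          rw [hyy, smul_inv_smul]
        · rw [hkill c hc y hyX]; exact zero_mem _
      · simp only [map_zero]; exact zero_mem _
      · intro x y hx hy; simp only [map_add]; exact add_mem hx hy
    have hbij : Function.Bijective (fun x : X₀ => Nat.card B₀ • x) := by
      refine Finite.injective_iff_bijective.1 fun x y hxy => ?_
      refine sub_eq_zero.1 (Subtype.ext (hinj _ ?_))
      have : Nat.card B₀ • (x - y) = 0 := by rw [nsmul_sub, sub_eq_zero]; exact hxy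
      exact congrArg Subtype.val this
    refine eq_top_iff.2 fun x _ => ?_
    obtain ⟨x', rfl⟩ := hbij.2 x
    obtain ⟨y', hy', hyy⟩ := himg (x' : V)
    rw [he₀X _ x'.2] at hyy
    have : Nat.card B₀ • x' = y' := Subtype.ext hyy.symm
    show Nat.card B₀ • x' ∈ Y
    rw [this]; exact hy'
  have hX₀top : X₀ ≠ ⊤ := fun h => hb₁ (eq_of_smul_eq_smul fun v : V => by
    rw [one_smul]; exact (show v ∈ X₀ from h ▸ AddSubgroup.mem_top v) b₀ hb₀B₀)
  have hlt : Nat.card X₀ < Nat.card V := by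
    obtain ⟨y, -, hy⟩ := SetLike.exists_of_lt (Ne.lt_top hX₀top)
    exact Finite.card_subtype_lt (p := (· ∈ X₀)) hy
  haveI : Nontrivial X₀ := (AddSubgroup.nontrivial_iff_ne_bot X₀).2 hX₀
  obtain ⟨τ, hτ⟩ := hbm H X₀ hlt (completelyReducible_of_irreducible hHirr)
  obtain ⟨T, hT, hTne⟩ := five_triples (p := p) (fun x : X₀ => Subtype.ext (hp x)) hτ
  obtain ⟨w₁, hw₁⟩ := exists_ne (0 : X₀)
  have hw₁' : (w₁ : V) ≠ 0 := fun h => hw₁ (Subtype.ext h)
  have hΨ : Nat.card Ψ < Nat.card V := by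
    let j : Ψ → {w : V // w ≠ 0} := fun Y => ⟨t Y • (w₁ : V), fun h => hw₁' ((smul_eq_zero_iff_eq _).1 h)⟩
    have hj : Function.Injective j := fun Y Y' h => by
      by_contra hne
      have h1 : t Y • (w₁ : V) = t Y' • (w₁ : V) := congrArg Subtype.val h
      have h2 := hindep (fun Z => if Z = Y then t Y • (w₁ : V) else if Z = Y' then -(t Y' • (w₁ : V)) else 0)
        (fun Z => by
          split_ifs with h3 h4
          · subst h3; exact hmemY _ _ w₁.2
          · subst h4; exact neg_mem (hmemY _ _ w₁.2)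
          · exact zero_mem _) ?_ Y
      · rw [if_pos rfl] at h2
        exact hw₁' ((smul_eq_zero_iff_eq _).1 h2)
      · rw [Finset.sum_eq_add Y Y' hne (fun c _ hc => by rw [if_neg hc.1, if_neg hc.2])
          (fun h => absurd (Finset.mem_univ _) h) (fun h => absurd (Finset.mem_univ _) h), if_pos rfl,
          if_neg (Ne.symm hne), if_pos rfl, ← h1, add_neg_cancel]
    exact lt_of_le_of_lt (Nat.card_le_card_of_injective j hj)
      (Finite.card_subtype_lt (p := fun w : V => w ≠ 0) (x := 0) (not_not.2 rfl))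
  obtain ⟨D, hD⟩ := hbc A Ψ hΨ
  let F : Fin 3 → Ψ → V := fun k Y => t Y • (T (D Y) k : V)
  refine ⟨fun k => ∑ Y : Ψ, F k Y, fun a ha => ?_⟩
  have hcomp : ∀ F : Ψ → V, (∀ Y : Ψ, F Y ∈ (Y : AddSubgroup V)) → a • ∑ Y : Ψ, F Y = ∑ Y : Ψ, F Y →
      ∀ Y : Ψ, F (a • Y) = a • F Y := by
    intro F hF hfix Y
    have h0 := hindep (fun Z => a • F (a⁻¹ • Z) - F Z) (fun Z => sub_mem (by
        have := AddSubgroup.smul_mem_pointwise_smul _ a _ (hF (a⁻¹ • Z))
        rwa [orbit.coe_smul, smul_inv_smul] at this) (hF Z)) (by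
      rw [Finset.sum_sub_distrib, ← Finset.smul_sum,
        show ∑ Z : Ψ, F (a⁻¹ • Z) = ∑ Z : Ψ, F Z from Equiv.sum_comp (MulAction.toPerm a⁻¹) F]
      exact sub_eq_zero.2 hfix) (a • Y)
    simp only [inv_smul_smul, sub_eq_zero] at h0
    exact h0.symm
  have hh : ∀ Y : Ψ, (t (a • Y))⁻¹ * a * t Y ∈ H := fun Y => by
    rw [mem_stabilizer_iff, mul_smul, mul_smul, ht, inv_smul_eq_iff, ht, orbit.coe_smul]
  have hmap : ∀ Y : Ψ, ∀ k, (⟨_, hh Y⟩ : H) • T (D Y) k = T (D (a • Y)) k := fun Y k => by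
    refine Subtype.ext ?_
    show ((t (a • Y))⁻¹ * a * t Y) • (T (D Y) k : V) = _
    rw [mul_smul, mul_smul, inv_smul_eq_iff]
    exact (hcomp (F k) (fun Y => hmemY Y _ (T (D Y) k).2) (ha k) Y).symm
  have hfix : ∀ Y : Ψ, a • Y = Y := hD a fun Y => (hTne _ _ _ (hmap Y)).symm
  intro x
  have hx : x ∈ ⨆ Y : Ψ, (Y : AddSubgroup V) := hspan ▸ AddSubgroup.mem_top x
  refine AddSubgroup.iSup_induction _ (C := fun x => a • x = x) hx ?_ ?_ ?_
  · intro Y y hy
    have h1 := hmap Y
    have hst := hh Y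
    simp only [hfix Y] at h1 hst
    have h3 := hT (D Y) ⟨_, hst⟩ h1 ⟨_, hYmem Y y hy⟩
    have h4 : ((t Y)⁻¹ * a * t Y) • (t Y)⁻¹ • y = (t Y)⁻¹ • y := congrArg Subtype.val h3
    rwa [mul_smul, mul_smul, smul_inv_smul, smul_left_cancel_iff] at h4
  · exact smul_zero a
  · intro x y hx hy; simp only [smul_add, hx, hy]

end Modules

theorem joint_aux : ∀ n : ℕ,
    (∀ (A V : Type v) [Group A] [Finite A] [Group.IsSolvable A] [AddCommGroup V] [Finite V] [DistribMulAction A V],
      Nat.card V = n → CompletelyReducible A V → ∃ t : Fin 3 → V, FamRegular A t) ∧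
    ∀ (G Ω : Type v) [Group G] [Finite G] [Group.IsSolvable G] [Finite Ω] [MulAction G Ω],
      Nat.card Ω = n → ∃ f : Ω → Fin 5, ColRegular G f := by
  intro n
  induction n using Nat.strong_induction_on with
  | _ n ih =>
    have hbm : ModBelow.{v} n := fun A V _ _ _ _ _ _ hlt => (ih _ hlt).1 A V rfl
    have hbc : ColBelow.{v} n := fun G Ω _ _ _ _ _ hlt => (ih _ hlt).2 G Ω rfl
    have hmod : ∀ (A V : Type v) [Group A] [Finite A] [Group.IsSolvable A] [AddCommGroup V] [Finite V]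
        [DistribMulAction A V], Nat.card V = n → CompletelyReducible A V → ∃ t : Fin 3 → V, FamRegular A t := by
      intro A V _ _ _ _ _ _ hn hcr
      classical
      subst hn
      by_cases hirr : Irreducible' A V
      · rcases subsingleton_or_nontrivial V with hV | hV
        · exact ⟨fun _ => 0, fun a _ x => Subsingleton.elim _ _⟩
        let φ := MulAction.toPermHom A V
        letI : DistribMulAction φ.range V := rangeAct A V
        haveI : Group.IsSolvable φ.range := Group.isSolvable_of_surjective φ.rangeRestrict_surjective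
        have hirr' : Irreducible' φ.range V := fun U hU => hirr U fun a w hw => hU ⟨φ a, a, rfl⟩ w hw
        obtain ⟨p, hp, hpV⟩ := exists_prime_nsmul hirr
        haveI := Fact.mk hp
        suffices h : ∃ t : Fin 3 → V, FamRegular φ.range t by
          obtain ⟨t, h⟩ := h
          exact ⟨t, fun a ha x => h ⟨φ a, a, rfl⟩ ha x⟩
        by_cases hfpf : ∀ B : Subgroup φ.range, B.Normal → IsMulCommutative B → FixedPointFree V B
        · obtain ⟨v₁, v₂, v₃, h⟩ := quasiprimitive hpV hfpf hbc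
          refine ⟨![v₁, v₂, v₃], fun g hg x => ?_⟩
          rw [h g (hg 0) (hg 1) (hg 2), one_smul]
        · simp only [FixedPointFree] at hfpf
          push Not at hfpf
          obtain ⟨B, hBn, hBab, b, hbB, w, hw, hbw, hb1⟩ := hfpf
          exact imprimitive_triple hbm hbc hirr' hpV hBn hBab hbB hb1 hw hbw
      · simp only [Irreducible'] at hirr
        push Not at hirr
        obtain ⟨U, hU, hUbot, hUtop⟩ := hirr
        obtain ⟨W, hW, hinf, hsup⟩ := hcr U hU
        have hWtop : W ≠ ⊤ := fun h => hUbot (by rwa [h, inf_top_eq] at hinf)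
        have part : ∀ (X : AddSubgroup V) (hX : ∀ a : A, ∀ w ∈ X, a • w ∈ X), X ≠ ⊤ →
            ∃ t : Fin 3 → X, ∀ a : A, (∀ k, a • (t k : V) = t k) → ∀ x ∈ X, a • x = x := by
          intro X hX hXtop
          letI := subAct X hX
          obtain ⟨y, -, hy⟩ := SetLike.exists_of_lt (Ne.lt_top hXtop)
          have hcrX : CompletelyReducible A X := by
            intro K hK
            obtain ⟨L, hL, hKL, hKL'⟩ := hcr (K.map X.subtype) (by
              rintro a _ ⟨k, hk, rfl⟩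
              exact ⟨a • k, hK a k hk, rfl⟩)
            refine ⟨L.addSubgroupOf X, fun a w hw => hL a _ hw, ?_, ?_⟩
            · refine eq_bot_iff.2 fun k hk => ?_
              have : (k : V) ∈ K.map X.subtype ⊓ L := ⟨⟨k, hk.1, rfl⟩, hk.2⟩
              rw [hKL, AddSubgroup.mem_bot] at this
              exact AddSubgroup.mem_bot.2 (Subtype.ext this)
            · refine eq_top_iff.2 fun x _ => ?_
              obtain ⟨_, ⟨k, hk, rfl⟩, l, hl, hkl⟩ :=
                AddSubgroup.mem_sup.1 (hKL' ▸ AddSubgroup.mem_top (x : V))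
              refine AddSubgroup.mem_sup.2 ⟨k, hk, x - k, ?_, by abel⟩
              show ((x - k : X) : V) ∈ L
              rw [AddSubgroup.coe_sub, ← hkl]
              simpa using hl
          obtain ⟨t, h⟩ := hbm A X (Finite.card_subtype_lt (p := (· ∈ X)) hy) hcrX
          exact ⟨t, fun a ha x hx =>
            congrArg Subtype.val (h a (fun k => Subtype.ext (ha k)) ⟨x, hx⟩)⟩
        obtain ⟨t₁, h₁⟩ := part U hU hUtop
        obtain ⟨t₂, h₂⟩ := part W hW hWtop
        refine ⟨fun k => t₁ k + t₂ k, fun a ha x => ?_⟩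
        have split : ∀ (u : U) (w : W), a • ((u : V) + w) = u + w → a • (u : V) = u ∧ a • (w : V) = w := by
          intro u w h
          rw [smul_add] at h
          have h1 : a • (u : V) - u = w - a • (w : V) := by
            rw [sub_eq_sub_iff_add_eq_add, h, add_comm]
          have h2 : a • (u : V) - u ∈ U ⊓ W :=
            AddSubgroup.mem_inf.2 ⟨sub_mem (hU a u u.2) u.2, by rw [h1]; exact sub_mem w.2 (hW a w w.2)⟩
          rw [hinf, AddSubgroup.mem_bot, sub_eq_zero] at h2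
          refine ⟨h2, ?_⟩
          rwa [h2, add_right_inj] at h
        obtain ⟨u, hu, w, hwW, rfl⟩ := AddSubgroup.mem_sup.1 (hsup ▸ AddSubgroup.mem_top x)
        rw [smul_add, h₁ a (fun k => (split _ _ (ha k)).1) u hu, h₂ a (fun k => (split _ _ (ha k)).2) w hwW]
    refine ⟨hmod, ?_⟩
    intro G Ω _ _ _ _ _ hn
    classical
    let φ := MulAction.toPermHom G Ω
    haveI : Group.IsSolvable φ.range := Group.isSolvable_of_surjective φ.rangeRestrict_surjective
    suffices h : ∃ f : Ω → Fin 5, ColRegular φ.range f by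
      obtain ⟨f, h⟩ := h
      exact ⟨f, fun g hg x => h ⟨φ g, g, rfl⟩ hg x⟩
    subst hn
    by_cases htr : IsPretransitive φ.range Ω
    · by_cases hprim : ∀ X : Set Ω, IsBlock φ.range X → IsTrivialBlock X
      · refine colour_primitive (fun A V _ _ _ _ _ _ hlt hcr => ?_)
          { toIsPretransitive := htr, isTrivialBlock_of_isBlock := fun h => hprim _ h }
        rcases (Nat.lt_succ_iff.1 hlt).lt_or_eq with h | h
        · exact hbm A V h hcr
        · exact hmod A V h hcr
      · push Not at hprim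
        obtain ⟨X, hX, hX'⟩ := hprim
        exact colour_imprimitive hbc hX (fun h => hX' (Or.inl h)) (fun h => hX' (Or.inr h))
    · exact colour_intransitive hbc htr

/-- Three vectors with trivial common stabiliser. -/
theorem exists_triple {A : Type u} {V : Type v} [Group A] [Finite A] [Group.IsSolvable A] [AddCommGroup V]
    [Finite V] [DistribMulAction A V] [FaithfulSMul A V] (hcr : CompletelyReducible A V) :
    ∃ v₁ v₂ v₃ : V, ∀ a : A, a • v₁ = v₁ → a • v₂ = v₂ → a • v₃ = v₃ → a = 1 := by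
  let φ := MulAction.toPermHom A V
  letI : DistribMulAction φ.range V := rangeAct A V
  haveI : Group.IsSolvable φ.range := Group.isSolvable_of_surjective φ.rangeRestrict_surjective
  obtain ⟨t, h⟩ := (joint_aux (Nat.card V)).1 φ.range V rfl (fun U hU => by
    obtain ⟨W, hW, h1, h2⟩ := hcr U fun a u hu => hU ⟨φ a, a, rfl⟩ u hu
    refine ⟨W, fun g w hw => ?_, h1, h2⟩
    obtain ⟨a, ha⟩ := g.2
    show (g : Equiv.Perm V) w ∈ W
    rw [← ha]; exact hW a w hw)
  refine ⟨t 0, t 1, t 2, fun a h1 h2 h3 => eq_of_smul_eq_smul fun x : V => ?_⟩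
  rw [one_smul]
  exact h ⟨φ a, a, rfl⟩ (fun k => by fin_cases k <;> assumption) x

end Cfsg.Lib.SolvBase
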