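import Cfsg.Agent.Lib.Dickson.Solvable
import Mathlib.GroupTheory.Solvable
import Mathlib.GroupTheory.QuotientGroup.Basic
import Mathlib.GroupTheory.GroupAction.Quotient
import Mathlib.GroupTheory.Index
import Mathlib.LinearAlgebra.Matrix.SpecialLinearGroup
import Mathlib.LinearAlgebra.LinearIndependent.Lemmas
import Mathlib.Algebra.Module.ZMod
import Mathlib.Tactic.FinCases

/-!
Five inequivalent regular colourings, and five inequivalent regular triples, for a solvable group.
-/

set_option autoImplicit false
set_option linter.unusedSectionVars false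
set_option linter.style.haveILetI false

namespace Cfsg.Lib.SolvBase

open MulAction
open scoped commutatorElement

universe u v w

/-- Only elements acting trivially preserve the colouring. -/
def ColRegular (G : Type u) {Ω : Type v} [Group G] [MulAction G Ω] (f : Ω → Fin 5) : Prop :=
  ∀ g : G, (∀ x, f (g • x) = f x) → ∀ x : Ω, g • x = x

/-- A solvable subgroup of a non-solvable finite group has index at least five. -/
theorem five_le_index {Γ : Type u} [Group Γ] [Finite Γ] (hns : ¬ Group.IsSolvable Γ) (K : Subgroup Γ)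
    [hK : Group.IsSolvable K] : 5 ≤ K.index := by
  classical
  by_contra h
  refine hns ?_
  haveI := Fintype.ofFinite (Γ ⧸ K)
  let φ := MulAction.toPermHom Γ (Γ ⧸ K)
  have hker : φ.ker ≤ K := by rw [← Subgroup.normalCore_eq_ker]; exact K.normalCore_le
  haveI : Group.IsSolvable φ.ker :=
    Group.isSolvable_of_isSolvable_injective (Subgroup.inclusion_injective hker)
  haveI : Group.IsSolvable (Equiv.Perm (Γ ⧸ K)) := by
    have hc : Fintype.card (Γ ⧸ K) ≤ 4 := by
      rw [← Nat.card_eq_fintype_card, ← Subgroup.index]; omega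
    haveI := Cfsg.Lib.Dickson.isSolvable_perm_four
    exact Group.isSolvable_of_isSolvable_injective
      (Equiv.Perm.viaEmbeddingHom_injective ((Fintype.equivFin (Γ ⧸ K)).toEmbedding.trans (Fin.castLEEmb hc)))
  exact Group.isSolvable_of_ker_le_range φ.ker.subtype φ (by rw [Subgroup.range_subtype])

/-- Five representatives of distinct left cosets. -/
theorem exists_five_cosets {Γ : Type u} [Group Γ] [Finite Γ] (hns : ¬ Group.IsSolvable Γ) (K : Subgroup Γ)
    [Group.IsSolvable K] : ∃ g : Fin 5 → Γ, ∀ i j, (g i)⁻¹ * g j ∈ K → i = j := by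
  haveI := Fintype.ofFinite (Γ ⧸ K)
  have h := five_le_index hns K
  rw [Subgroup.index, Nat.card_eq_fintype_card] at h
  let e : Fin 5 ↪ Γ ⧸ K := (Fin.castLEEmb h).trans (Fintype.equivFin (Γ ⧸ K)).symm.toEmbedding
  refine ⟨fun i => (e i).out, fun i j hij => e.injective ?_⟩
  rw [← QuotientGroup.out_eq' (e i), ← QuotientGroup.out_eq' (e j), QuotientGroup.eq]
  exact hij

theorem image_add_eq_self : ∀ S : Finset (Fin 5), ∀ d : Fin 5, d ≠ 0 →
    S.image (fun x => x + d) = S → S = ∅ ∨ S = Finset.univ := by
  decide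

variable {H : Type u} [Group H] [Finite H]

theorem five_colourings [Group.IsSolvable H] {X : Type v} [Finite X] [Nonempty X] [MulAction H X]
    {f : X → Fin 5} (hf : ColRegular H f) :
    ∃ F : Fin 5 → X → Fin 5, (∀ i, ColRegular H (F i)) ∧
      ∀ i j, ∀ h : H, (∀ x, F i (h • x) = F j x) → i = j := by
  classical
  haveI := Fintype.ofFinite X
  set S := Finset.univ.image f with hS
  by_cases hsurj : S = Finset.univ
  · have hsurj' : ∀ c, ∃ x, f x = c := fun c => by
      have : c ∈ S := hsurj ▸ Finset.mem_univ c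
      simpa [hS] using this
    let L : Subgroup (Equiv.Perm (Fin 5) × H) :=
      { carrier := {q | ∀ x, f (q.2 • x) = q.1 (f x)}
        one_mem' := fun x => by simp
        mul_mem' := fun {a b} ha hb x => by
          show f ((a.2 * b.2) • x) = a.1 (b.1 (f x))
          rw [mul_smul, ha, hb]
        inv_mem' := fun {a} ha x => by
          show f (a.2⁻¹ • x) = a.1⁻¹ (f x)
          rw [Equiv.Perm.eq_inv_iff_eq, ← ha, smul_inv_smul] }
    have hinj : Function.Injective ((MonoidHom.snd (Equiv.Perm (Fin 5)) H).comp L.subtype) := by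
      rintro ⟨⟨σ, h⟩, hσ⟩ ⟨⟨τ, h'⟩, hτ⟩ (he : h = h')
      subst he
      refine Subtype.ext (Prod.ext (Equiv.ext fun c => ?_) rfl)
      obtain ⟨x, rfl⟩ := hsurj' c
      exact (hσ x).symm.trans (hτ x)
    haveI : Group.IsSolvable L := Group.isSolvable_of_isSolvable_injective hinj
    let π := (MonoidHom.fst (Equiv.Perm (Fin 5)) H).comp L.subtype
    haveI : Group.IsSolvable π.range := Group.isSolvable_of_surjective π.rangeRestrict_surjective
    obtain ⟨τ, hτ⟩ := exists_five_cosets Equiv.Perm.not_isSolvable_fin_5 π.range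
    refine ⟨fun i x => τ i (f x), fun i g hg => hf g fun x => (τ i).injective (hg x), fun i j h hh => hτ i j ?_⟩
    refine ⟨⟨((τ i)⁻¹ * τ j, h), fun x => ?_⟩, rfl⟩
    show f (h • x) = (τ i)⁻¹ (τ j (f x))
    rw [Equiv.Perm.eq_inv_iff_eq]
    exact hh x
  · refine ⟨fun i x => f x + i, fun i g hg => hf g fun x => add_right_cancel (hg x), fun i j h hh => ?_⟩
    by_contra hij
    have hfh : ∀ x, f (h • x) = f x + (j - i) := fun x => by
      have := hh x
      rw [← eq_sub_iff_add_eq] at this
      rw [this, add_sub_assoc]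
    have h1 : S.image (fun c => c + (j - i)) = S := by
      rw [hS, Finset.image_image]
      ext c
      simp only [Finset.mem_image, Finset.mem_univ, true_and, Function.comp_apply, ← hfh]
      exact ⟨fun ⟨x, hx⟩ => ⟨h • x, hx⟩, fun ⟨x, hx⟩ => ⟨h⁻¹ • x, by rw [smul_inv_smul]; exact hx⟩⟩
    rcases image_add_eq_self S (j - i) (sub_ne_zero.2 (Ne.symm hij)) h1 with h2 | h2
    · obtain ⟨x⟩ := ‹Nonempty X›
      exact Finset.notMem_empty (f x) (h2 ▸ Finset.mem_image_of_mem f (Finset.mem_univ x))
    · exact hsurj h2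

theorem transvection_comm {F : Type w} [CommRing F] {i j k : Fin 3} (hij : i ≠ j) (hik : i ≠ k) (hkj : k ≠ j) :
    Matrix.SpecialLinearGroup.transvection hij (1 : F) =
      ⁅Matrix.SpecialLinearGroup.transvection hik (1 : F), Matrix.SpecialLinearGroup.transvection hkj (1 : F)⁆ := by
  have h : Matrix.SpecialLinearGroup.transvection hik (1 : F) * Matrix.SpecialLinearGroup.transvection hkj (1 : F) =
      Matrix.SpecialLinearGroup.transvection hij (1 : F) * Matrix.SpecialLinearGroup.transvection hkj (1 : F) *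
        Matrix.SpecialLinearGroup.transvection hik (1 : F) := by
    refine Subtype.ext ?_
    simp only [Matrix.SpecialLinearGroup.coe_mul, Matrix.SpecialLinearGroup.transvection_coe, Matrix.mul_add,
      Matrix.add_mul, Matrix.mul_one, Matrix.one_mul, Matrix.single_mul_single_same, mul_one,
      Matrix.single_mul_single_of_ne _ _ _ _ (Ne.symm hij), Matrix.single_mul_single_of_ne _ _ _ _ (Ne.symm hkj),
      Matrix.zero_mul, Matrix.mul_zero, add_zero, Matrix.single_mul_single_of_ne _ _ _ _ (Ne.symm hik)]
    abel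
  rw [commutatorElement_def, h]
  group

theorem sl_three_not_solvable (p : ℕ) [Fact p.Prime] :
    ¬ Group.IsSolvable (Matrix.SpecialLinearGroup (Fin 3) (ZMod p)) := by
  have h3 : ∀ i j : Fin 3, i ≠ j → ∃ k, i ≠ k ∧ k ≠ j := by decide
  have key : ∀ n, ∀ (i j : Fin 3) (hij : i ≠ j),
      Matrix.SpecialLinearGroup.transvection hij (1 : ZMod p) ∈ derivedSeries _ n := by
    intro n
    induction n with
    | zero => exact fun i j hij => Subgroup.mem_top _
    | succ n ih =>
      intro i j hij
      obtain ⟨k, hik, hkj⟩ := h3 i j hij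
      rw [transvection_comm hij hik hkj, derivedSeries_succ]
      exact Subgroup.commutator_mem_commutator (ih i k hik) (ih k j hkj)
  refine not_isSolvable_of_mem_derivedSeries (fun h => ?_) (fun n => key n 0 1 (by decide))
  have h1 := congrFun (congrFun (congrArg Subtype.val h) 0) 1
  simp [Matrix.SpecialLinearGroup.transvection, Matrix.transvection] at h1

section Triples

variable {X : Type v} [AddCommGroup X] [DistribMulAction H X]

/-- The common fixer of the family acts trivially. -/
def FamRegular (H : Type u) {X : Type v} [Group H] [AddCommGroup X] [DistribMulAction H X] {ι : Type}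
    (t : ι → X) : Prop :=
  ∀ h : H, (∀ k, h • t k = t k) → ∀ x : X, h • x = x

theorem five_triples_of_single {u : X} (hu : u ≠ 0) (hreg : ∀ h : H, h • u = u → ∀ x : X, h • x = x) :
    ∃ T : Fin 5 → Fin 3 → X, (∀ i, FamRegular H (T i)) ∧
      ∀ i j, ∀ h : H, (∀ k, h • T i k = T j k) → i = j := by
  refine ⟨![![u, 0, 0], ![0, u, 0], ![0, 0, u], ![u, u, 0], ![u, 0, u]], fun i h hh => ?_, fun i j h hh => ?_⟩
  · refine hreg h ?_
    fin_cases i
    · simpa using hh 0
    · simpa using hh 1
    · simpa using hh 2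
    · simpa using hh 0
    · simpa using hh 0
  · have hz : h • u ≠ 0 := fun h0 => hu ((smul_eq_zero_iff_eq h).1 h0)
    have a0 := hh 0
    have a1 := hh 1
    have a2 := hh 2
    fin_cases i <;> fin_cases j <;> first | rfl | (exfalso; simp [hu, hz, Ne.symm hu, Ne.symm hz] at a0 a1 a2)

theorem five_triples_of_pair {u₁ u₂ : X} (h₁ : u₁ ≠ 0) (h₂ : u₂ ≠ 0) (h₁₂ : u₁ ≠ u₂)
    (hreg : ∀ h : H, h • u₁ = u₁ → h • u₂ = u₂ → ∀ x : X, h • x = x) :
    ∃ T : Fin 5 → Fin 3 → X, (∀ i, FamRegular H (T i)) ∧
      ∀ i j, ∀ h : H, (∀ k, h • T i k = T j k) → i = j := by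
  refine ⟨![![u₁, u₂, 0], ![u₁, 0, u₂], ![0, u₁, u₂], ![u₁, u₂, u₁], ![u₁, u₁, u₂]], fun i h hh => ?_,
    fun i j h hh => ?_⟩
  · fin_cases i
    · exact hreg h (by simpa using hh 0) (by simpa using hh 1)
    · exact hreg h (by simpa using hh 0) (by simpa using hh 2)
    · exact hreg h (by simpa using hh 1) (by simpa using hh 2)
    · exact hreg h (by simpa using hh 0) (by simpa using hh 1)
    · exact hreg h (by simpa using hh 0) (by simpa using hh 2)
  · have hz₁ : h • u₁ ≠ 0 := fun h0 => h₁ ((smul_eq_zero_iff_eq h).1 h0)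
    have hz₂ : h • u₂ ≠ 0 := fun h0 => h₂ ((smul_eq_zero_iff_eq h).1 h0)
    have a0 := hh 0
    have a1 := hh 1
    have a2 := hh 2
    fin_cases i <;> fin_cases j <;> first
      | rfl
      | (exfalso; simp [h₁, h₂, hz₁, hz₂, Ne.symm h₁, Ne.symm h₂, Ne.symm hz₁, Ne.symm hz₂] at a0 a1 a2; done)
      | (exfalso; simp_all)

/-- Five inequivalent regular triples from one regular triple. -/
theorem five_triples [Group.IsSolvable H] [Nontrivial X] {p : ℕ} [Fact p.Prime] (hp : ∀ x : X, p • x = 0)
    {t : Fin 3 → X} (ht : FamRegular H t) :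
    ∃ T : Fin 5 → Fin 3 → X, (∀ i, FamRegular H (T i)) ∧
      ∀ i j, ∀ h : H, (∀ k, h • T i k = T j k) → i = j := by
  classical
  letI : Module (ZMod p) X := AddCommGroup.zmodModule hp
  have hsmul : ∀ (h : H) (c : ZMod p) (x : X), h • (c • x) = c • (h • x) := fun h c x =>
    ZMod.map_smul (DistribSMul.toAddMonoidHom X h) c x
  by_cases hli : LinearIndependent (ZMod p) t
  · let act : Matrix (Fin 3) (Fin 3) (ZMod p) → (Fin 3 → X) → Fin 3 → X := fun B s k => ∑ l, B k l • s l
    have hmul : ∀ B C s, act (B * C) s = act B (act C s) := fun B C s => by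
      funext k
      simp only [act, Matrix.mul_apply, Finset.sum_smul, Finset.smul_sum, smul_smul]
      exact Finset.sum_comm
    have hone : ∀ s, act 1 s = s := fun s => by
      funext k
      simp [act, Matrix.one_apply, ite_smul]
    have hequi : ∀ (h : H) B s, (fun k => h • act B s k) = act B (fun k => h • s k) := fun h B s => by
      funext k
      simp only [act, Finset.smul_sum, hsmul]
    have hinjt : ∀ B C, act B t = act C t → B = C := fun B C he => by
      funext k l
      have h1 := congrFun he k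
      simp only [act] at h1
      rw [← sub_eq_zero, ← Finset.sum_sub_distrib] at h1
      simp only [← sub_smul] at h1
      exact sub_eq_zero.1 (Fintype.linearIndependent_iff.1 hli _ h1 l)
    let L : Subgroup (Matrix.SpecialLinearGroup (Fin 3) (ZMod p) × H) :=
      { carrier := {q | (fun k => q.2⁻¹ • t k) = act q.1.1 t}
        one_mem' := by
          show (fun k => (1 : H)⁻¹ • t k) = act 1 t
          simp [hone]
        mul_mem' := fun {a b} ha hb => by
          show (fun k => (a.2 * b.2)⁻¹ • t k) = act (a.1.1 * b.1.1) t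
          have h1 : (fun k => (a.2 * b.2)⁻¹ • t k) = fun k => b.2⁻¹ • (fun k => a.2⁻¹ • t k) k := by
            funext k; rw [mul_inv_rev, mul_smul]
          rw [h1, show (fun k => a.2⁻¹ • t k) = act a.1.1 t from ha, hequi,
            show (fun k => b.2⁻¹ • t k) = act b.1.1 t from hb, hmul]
        inv_mem' := fun {a} ha => by
          show (fun k => (a.2⁻¹)⁻¹ • t k) = act ((a.1⁻¹ : Matrix.SpecialLinearGroup (Fin 3) (ZMod p)) : Matrix _ _ _) t
          have h1 := congrArg (fun s => act ((a.1⁻¹ : Matrix.SpecialLinearGroup (Fin 3) (ZMod p)) : Matrix _ _ _)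
            (fun k => a.2 • s k)) ha
          simp only [smul_inv_smul] at h1
          rw [hequi, ← hmul, ← Matrix.SpecialLinearGroup.coe_mul, inv_mul_cancel, Matrix.SpecialLinearGroup.coe_one,
            hone] at h1
          rw [inv_inv]
          exact h1.symm }
    have hinj : Function.Injective ((MonoidHom.snd (Matrix.SpecialLinearGroup (Fin 3) (ZMod p)) H).comp L.subtype) := by
      rintro ⟨⟨B, h⟩, hB⟩ ⟨⟨C, h'⟩, hC⟩ (he : h = h')
      subst he
      exact Subtype.ext (Prod.ext (Subtype.ext (hinjt _ _ (hB.symm.trans hC))) rfl)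
    haveI : Group.IsSolvable L := Group.isSolvable_of_isSolvable_injective hinj
    let π := (MonoidHom.fst (Matrix.SpecialLinearGroup (Fin 3) (ZMod p)) H).comp L.subtype
    haveI : Group.IsSolvable π.range := Group.isSolvable_of_surjective π.rangeRestrict_surjective
    obtain ⟨g, hg⟩ := exists_five_cosets (sl_three_not_solvable p) π.range
    have hcancel : ∀ i s, act ((g i)⁻¹ : Matrix.SpecialLinearGroup (Fin 3) (ZMod p)).1 (act (g i).1 s) = s :=
      fun i s => by
        rw [← hmul, ← Matrix.SpecialLinearGroup.coe_mul, inv_mul_cancel, Matrix.SpecialLinearGroup.coe_one, hone]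
    refine ⟨fun i => act (g i).1 t, fun i h hh => ht h fun k => ?_, fun i j h hh => hg i j ?_⟩
    · have h1 : act (g i).1 (fun k => h • t k) = act (g i).1 t := by rw [← hequi]; exact funext hh
      have h2 := congrArg (act ((g i)⁻¹ : Matrix.SpecialLinearGroup (Fin 3) (ZMod p)).1) h1
      rw [hcancel, hcancel] at h2
      exact congrFun h2 k
    · refine ⟨⟨((g i)⁻¹ * g j, h⁻¹), ?_⟩, rfl⟩
      show (fun k => h⁻¹⁻¹ • t k) = act ((g i)⁻¹ * g j).1 t
      have h1 : act (g i).1 (fun k => h • t k) = act (g j).1 t := by rw [← hequi]; exact funext hh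
      have h2 := congrArg (act ((g i)⁻¹ : Matrix.SpecialLinearGroup (Fin 3) (ZMod p)).1) h1
      rw [hcancel, ← hmul, ← Matrix.SpecialLinearGroup.coe_mul] at h2
      rw [inv_inv]
      exact h2
  · rw [Fintype.linearIndependent_iff] at hli
    push Not at hli
    obtain ⟨c, hc, k₀, hk₀⟩ := hli
    have hdet : ∀ h : H, (∀ k, k ≠ k₀ → h • t k = t k) → ∀ x : X, h • x = x := fun h hh => ht h fun k => by
      by_cases hk : k = k₀
      · subst hk
        have h1 : ∑ l, c l • (h • t l - t l) = 0 := by
          simp only [smul_sub, Finset.sum_sub_distrib, ← hsmul, ← Finset.smul_sum, hc, smul_zero, sub_zero]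
        rw [Finset.sum_eq_single k (fun l _ hl => by rw [hh l hl, sub_self, smul_zero])
          (fun h => absurd (Finset.mem_univ k) h), smul_eq_zero, or_iff_right hk₀, sub_eq_zero] at h1
        exact h1
      · exact hh k hk
    obtain ⟨a, b, hab⟩ : ∃ a b : Fin 3, ∀ k, k ≠ k₀ → k = a ∨ k = b := ⟨k₀ + 1, k₀ + 2, fun k hk => (by decide : ∀ a k : Fin 3, k ≠ a → k = a + 1 ∨ k = a + 2) k₀ k hk⟩
    have hpair : ∀ h : H, h • t a = t a → h • t b = t b → ∀ x : X, h • x = x := fun h h1 h2 =>
      hdet h fun k hk => by rcases hab k hk with rfl | rfl <;> assumption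
    by_cases ha : t a = 0
    · by_cases hb : t b = 0
      · obtain ⟨u, hu⟩ := exists_ne (0 : X)
        exact five_triples_of_single hu fun h _ => hpair h (by rw [ha, smul_zero]) (by rw [hb, smul_zero])
      · exact five_triples_of_single hb fun h hh => hpair h (by rw [ha, smul_zero]) hh
    by_cases hb : t b = 0
    · exact five_triples_of_single ha fun h hh => hpair h hh (by rw [hb, smul_zero])
    by_cases hab' : t a = t b
    · exact five_triples_of_single ha fun h hh => hpair h hh (hab' ▸ hh)
    exact five_triples_of_pair ha hb hab' hpair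

end Triples

end Cfsg.Lib.SolvBase
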