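import Cfsg.Agent.Lib.OddBase.ClassTwo

/-!
The exponent of a group of class two all of whose abelian characteristic subgroups are cyclic.
-/

set_option autoImplicit false
set_option linter.unusedSectionVars false
set_option linter.style.haveILetI false

namespace Cfsg.Lib.SolvBase

open scoped commutatorElement
open Cfsg.Lib.PGroup Cfsg.Lib.OddBase

universe u

variable {N : Type u} [Group N] [Finite N]

theorem dvd_choose_two_of_odd {o : ℕ} (ho : Odd o) : o ∣ o.choose 2 := by
  obtain ⟨m, hm⟩ := ho
  refine ⟨m, ?_⟩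
  rw [Nat.choose_two_right, hm, Nat.add_sub_cancel]
  rw [← mul_assoc, mul_comm (2 * m + 1) 2, mul_assoc, Nat.mul_div_cancel_left _ two_pos]

theorem pow_mem_center (hcl : commutator N ≤ Subgroup.center N) (y : N) :
    y ^ Nat.card (Subgroup.center N) ∈ Subgroup.center N :=
  Subgroup.mem_center_iff.2 fun g => (commutatorElement_eq_one_iff_mul_comm.1 (by
    rw [commutatorElement_pow_left hcl]
    exact congrArg Subtype.val (pow_card_eq_one' (x := (⟨⁅y, g⁆, commutator_mem_center hcl y g⟩ : Subgroup.center N)))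
    : ⁅y ^ Nat.card (Subgroup.center N), g⁆ = 1)).symm

theorem char_map_of_char {G : Type u} [Group G] {H : Subgroup G} [hH : H.Characteristic] {B : Subgroup H}
    (hB : B.Characteristic) : (B.map H.subtype).Characteristic := by
  refine Subgroup.characteristic_iff_le_comap.2 ?_
  rintro φ _ ⟨b, hb, rfl⟩
  have hmem : ∀ g : G, φ g ∈ H ↔ g ∈ H := fun g => by
    constructor
    · intro hg
      have := Subgroup.characteristic_iff_le_comap.1 hH φ.symm hg
      simpa using this
    · exact fun hg => Subgroup.characteristic_iff_le_comap.1 hH φ hg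
  let ψ : H ≃* H :=
    { toFun := fun x => ⟨φ x, (hmem x).2 x.2⟩
      invFun := fun x => ⟨φ.symm x, (hmem _).1 (by simp)⟩
      left_inv := fun x => Subtype.ext (φ.symm_apply_apply (x : G))
      right_inv := fun x => Subtype.ext (φ.apply_symm_apply (x : G))
      map_mul' := fun x y => Subtype.ext (map_mul φ (x : G) (y : G)) }
  exact ⟨ψ b, Subgroup.characteristic_iff_le_comap.1 hB ψ hb, rfl⟩

/-- Either the order of the centre kills the group, or it is twice an odd number and the power map to that order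
takes values of order at most two. -/
theorem pow_card_center_dichotomy (hcl : commutator N ≤ Subgroup.center N)
    (hcyc : ∀ B : Subgroup N, B.Characteristic → IsMulCommutative B → IsCyclic B) :
    (∀ x : N, x ^ Nat.card (Subgroup.center N) = 1) ∨
      (∃ m, Odd m ∧ Nat.card (Subgroup.center N) = 2 * m) ∧
        ∀ x : N, (x ^ Nat.card (Subgroup.center N)) ^ 2 = 1 := by
  classical
  set n := Nat.card (Subgroup.center N) with hn
  have hc := commutator_mem_center hcl
  have hcn : ∀ c ∈ Subgroup.center N, c ^ n = 1 := fun c hc' =>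
    congrArg Subtype.val (pow_card_eq_one' (x := (⟨c, hc'⟩ : Subgroup.center N)))
  rcases Nat.even_or_odd n with ⟨m, hm⟩ | hodd
  swap
  · left
    refine pow_card_center_eq_one_of_choose hcl hcyc fun a b => ?_
    obtain ⟨t, ht⟩ := dvd_choose_two_of_odd hodd
    rw [← hn, ht, pow_mul, hcn _ (hc b a), one_pow]
  rw [← two_mul] at hm
  have hpc : ∀ y : N, y ^ n ∈ Subgroup.center N := pow_mem_center hcl
  rcases Nat.even_or_odd m with ⟨l, hl⟩ | hmodd
  · left
    have hn0 : 0 < n := Nat.card_pos
    have hex : ∃ k : ℕ, 0 < k ∧ ∀ y : N, y ^ k ∈ Subgroup.center N := ⟨n, hn0, hpc⟩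
    obtain ⟨hk0, hk⟩ := Nat.find_spec hex
    set k := Nat.find hex with hkdef
    have hkn : k ∣ n := by
      refine Nat.dvd_of_mod_eq_zero (by_contra fun h => ?_)
      refine Nat.find_min hex (Nat.mod_lt n hk0) ⟨Nat.pos_of_ne_zero h, fun y => ?_⟩
      have h1 := hpc y
      rw [← Nat.div_add_mod n k, pow_add, pow_mul] at h1
      exact (Subgroup.mul_mem_cancel_left _ (pow_mem (hk y) _)).1 h1
    have hsq : ¬ 2 * 2 ∣ k :=
      exponent_squarefree hcl hcyc hk (fun j hj hjc => Nat.find_min' hex ⟨hj, hjc⟩) hk0 Nat.prime_two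
    have hkm : k ∣ m := by
      rcases Nat.even_or_odd k with ⟨k', hk'⟩ | hko
      · have hk'o : Odd k' := Nat.not_even_iff_odd.1 fun ⟨e, he⟩ => hsq ⟨e, by omega⟩
        have h1 : k' ∣ 2 * l := by
          obtain ⟨t, ht⟩ := hkn
          exact ⟨t, Nat.eq_of_mul_eq_mul_left two_pos (by rw [← mul_assoc 2 k', two_mul k', ← hk', ← ht, hm, hl]; ring)⟩
        have h2 : k' ∣ l := (Nat.Coprime.dvd_mul_left (Nat.coprime_two_right.2 hk'o)).1 h1
        obtain ⟨t, ht⟩ := h2
        exact ⟨t, by rw [hl, hk', ht]; ring⟩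
      · exact (Nat.Coprime.dvd_mul_left (Nat.coprime_two_right.2 hko)).1 (hm ▸ hkn)
    refine pow_card_center_eq_one_of_choose hcl hcyc fun a b => ?_
    have h3 : n.choose 2 = m * (n - 1) := by
      rw [Nat.choose_two_right, hm, mul_assoc, Nat.mul_div_cancel_left _ two_pos]
    obtain ⟨t, ht⟩ := hkm
    rw [← hn, h3, ht, mul_assoc, pow_mul, ← commutatorElement_pow_left hcl,
      commutatorElement_eq_one_iff_mul_comm.2 ((Subgroup.mem_center_iff.1 (hk b) a).symm), one_pow]
  · right
    refine ⟨⟨m, hmodd, hm⟩, ?_⟩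
    obtain ⟨a, o, ho, hao⟩ := Nat.exists_eq_two_pow_mul_odd (Nat.card_pos (α := N)).ne'
    let O : Subgroup N :=
      { carrier := {x | x ^ o = 1}
        one_mem' := one_pow o
        mul_mem' := fun {x y} hx hy => by
          obtain ⟨t, ht⟩ := dvd_choose_two_of_odd ho
          show (x * y) ^ o = 1
          rw [mul_pow_of_class_two hcl, show x ^ o = 1 from hx, show y ^ o = 1 from hy, ht, pow_mul,
            ← commutatorElement_pow_left hcl, show y ^ o = 1 from hy, commutatorElement_one_left, one_pow]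
          simp
        inv_mem' := fun {x} hx => by
          show x⁻¹ ^ o = 1
          rw [inv_pow, show x ^ o = 1 from hx, inv_one] }
    haveI hOc : O.Characteristic := Subgroup.characteristic_iff_le_comap.2 fun f y hy => by
      show f y ^ o = 1
      rw [← map_pow, show y ^ o = 1 from hy, map_one]
    have hcop : Nat.Coprime (2 ^ a) o := (Nat.coprime_two_left.2 ho).pow_left a
    have hOodd : Odd (Nat.card O) := by
      by_contra hne
      haveI := Fact.mk Nat.prime_two
      obtain ⟨x, hx⟩ := exists_prime_orderOf_dvd_card' 2 (even_iff_two_dvd.1 (Nat.not_odd_iff_even.1 hne))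
      have h1 : (x : N) ^ o = 1 := x.2
      have h2 : orderOf (x : N) ∣ o := orderOf_dvd_of_pow_eq_one h1
      rw [Subgroup.orderOf_coe, hx] at h2
      exact (Nat.not_even_iff_odd.2 ho) (even_iff_two_dvd.2 h2)
    obtain ⟨u, w, huw⟩ : ∃ u w : ℤ, u * (2 ^ a : ℕ) + w * (o : ℕ) = 1 := by
      obtain ⟨u, w, h⟩ := Int.isCoprime_iff_gcd_eq_one.2 (by exact_mod_cast hcop : Int.gcd ((2 ^ a : ℕ) : ℤ) o = 1)
      exact ⟨u, w, h⟩
    have hN : ∀ y : N, y ^ (2 ^ a * o) = 1 := fun y => by rw [← hao, pow_card_eq_one']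
    have hO1 : ∀ y : N, (y ^ (2 ^ a)) ^ u ∈ O := fun y => zpow_mem (K := O) (show (y ^ 2 ^ a) ^ o = 1 by
      rw [← pow_mul, hN]) u
    have hsplit : ∀ y : N, (y ^ (2 ^ a)) ^ u * (y ^ o) ^ w = y := fun y => by
      rw [← zpow_natCast, ← zpow_natCast, ← zpow_mul, ← zpow_mul, ← zpow_add, mul_comm _ u, mul_comm _ w, huw,
        zpow_one]
    have hs2 : ∀ y : N, ((y ^ o) ^ w) ^ (2 ^ a) = 1 := fun y => by
      rw [← zpow_natCast ((y ^ o) ^ w), ← zpow_mul, mul_comm, zpow_mul, zpow_natCast, ← pow_mul, mul_comm, hN,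
        one_zpow]
    have hcyc' : ∀ B : Subgroup O, B.Characteristic → IsMulCommutative B → IsCyclic B := fun B hB hBab => by
      haveI := hcyc _ (char_map_of_char hB) (Subgroup.map_isMulCommutative B _)
      exact isCyclic_of_surjective _
        (B.equivMapOfInjective O.subtype O.subtype_injective).symm.surjective
    have hclO : commutator O ≤ Subgroup.center O := by
      rw [commutator_def, Subgroup.commutator_le]
      intro x _ y _
      exact Subgroup.mem_center_iff.2 fun g => Subtype.ext (Subgroup.mem_center_iff.1 (hc x y) g)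
    have hZ : Nat.card (Subgroup.center O) ∣ n := by
      have hle : (Subgroup.center O).map O.subtype ≤ Subgroup.center N := by
        rintro _ ⟨c, hc', rfl⟩
        refine Subgroup.mem_center_iff.2 fun g => ?_
        have h1 : Commute ((g ^ (2 ^ a)) ^ u) (c : N) :=
          congrArg Subtype.val (Subgroup.mem_center_iff.1 hc' ⟨_, hO1 g⟩)
        have h2 : Commute ((g ^ o) ^ w) (c : N) := by
          refine commutatorElement_eq_one_iff_mul_comm.1 ?_
          set s := (g ^ o) ^ w
          have e1 : ⁅s, (c : N)⁆ ^ (2 ^ a) = 1 := by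
            rw [← commutatorElement_pow_left hcl, hs2, commutatorElement_one_left]
          have e2 : ⁅s, (c : N)⁆ ^ o = 1 := by
            rw [← commutatorElement_pow_right hcl, show (c : N) ^ o = 1 from c.2, commutatorElement_one_right]
          have e3 := pow_gcd_eq_one.2 ⟨e1, e2⟩
          rwa [hcop.gcd_eq_one, pow_one] at e3
        rw [← hsplit g]
        exact (h1.mul_left h2).eq
      rw [← Subgroup.card_map_of_injective O.subtype_injective]
      exact Subgroup.card_dvd_of_le hle
    intro x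
    set y := (x ^ (2 ^ a)) ^ u with hy
    set s := (x ^ o) ^ w with hs
    have hyn : y ^ n = 1 := by
      have := pow_card_center_eq_one hOodd hclO hcyc' ⟨y, hO1 x⟩
      obtain ⟨t, ht⟩ := hZ
      rw [ht, pow_mul, show y ^ Nat.card (Subgroup.center O) = 1 from congrArg Subtype.val this, one_pow]
    have hcomm : Commute y s := by
      rw [hy, hs]
      exact (((Commute.refl x).pow_pow _ _).zpow_zpow _ _)
    have hsn : (s ^ n) ^ 2 = 1 := by
      have h1 : s ^ 2 ∈ Subgroup.center N := by
        rw [← QuotientGroup.eq_one_iff, QuotientGroup.mk_pow]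
        set q : N ⧸ Subgroup.center N := (s : N ⧸ Subgroup.center N)
        have q1 : (q ^ 2) ^ m = 1 := by
          rw [← pow_mul, ← hm, ← QuotientGroup.mk_pow, QuotientGroup.eq_one_iff]; exact hpc s
        have q2 : (q ^ 2) ^ (2 ^ a) = 1 := by
          rw [← pow_mul, mul_comm, pow_mul, ← QuotientGroup.mk_pow, hs2, QuotientGroup.mk_one, one_pow]
        have q3 := pow_gcd_eq_one.2 ⟨q1, q2⟩
        rwa [Nat.Coprime.gcd_eq_one ((Nat.coprime_two_right.2 hmodd).pow_right a), pow_one] at q3
      have h2 : ((s ^ 2) ^ 2) ^ m = 1 := by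
        rw [← pow_mul, ← hm]; exact hcn _ h1
      have h3 : ((s ^ 2) ^ 2) ^ (2 ^ a) = 1 := by
        rw [← pow_mul, ← pow_mul, show 2 * (2 * 2 ^ a) = 2 ^ a * 4 by ring, pow_mul, hs2, one_pow]
      have h4 := pow_gcd_eq_one.2 ⟨h2, h3⟩
      rw [Nat.Coprime.gcd_eq_one ((Nat.coprime_two_right.2 hmodd).pow_right a), pow_one, ← pow_mul] at h4
      rw [← pow_mul, hm, show 2 * m * 2 = 2 * 2 * m by ring, pow_mul, h4, one_pow]
    calc (x ^ n) ^ 2 = ((y * s) ^ n) ^ 2 := by rw [hsplit]
      _ = 1 := by rw [hcomm.mul_pow, hyn, one_mul, hsn]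

end Cfsg.Lib.SolvBase
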