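import Cfsg.Agent.Lib.SolvBase.Slots
import Cfsg.Agent.Lib.SolvBase.Colour

/-!
Three vectors with trivial common stabiliser for a solvable group all of whose abelian normal subgroups act
fixed-point-freely.
-/

set_option autoImplicit false
set_option linter.unusedSectionVars false
set_option linter.style.haveILetI false
set_option linter.unusedSimpArgs false

namespace Cfsg.Lib.SolvBase

open scoped commutatorElement
open MulAction Cfsg.Lib.OddBase

universe v

theorem card_le_four_mul {N : Type v} [Group N] [Fintype N] {V : Type v} [AddCommGroup V] [DistribMulAction N V]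
    [DecidableEq N] (D : QuadData N V) (hne : ∃ x, D.coef x ≠ 1) :
    Fintype.card N ≤ 4 * (Finset.univ.filter fun x => D.coef x ≠ 1).card := by
  set S := Finset.univ.filter fun x => D.coef x ≠ 1
  by_cases hlin : ∀ x y : N, ⁅x⁻¹ * D.φ x, y⁆ = 1
  · obtain ⟨x₀, hx₀⟩ := hne
    have hcov : (Finset.univ : Finset N) ⊆ S ∪ S.image (fun g => g * x₀⁻¹) := fun g _ => by
      by_cases hg : D.coef g = 1
      · refine Finset.mem_union_right _ (Finset.mem_image.2 ⟨g * x₀, Finset.mem_filter.2 ⟨Finset.mem_univ _, ?_⟩,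
          mul_inv_cancel_right g x₀⟩)
        rw [D.coef_mul, hg, hlin, one_mul, mul_one]
        exact hx₀
      · exact Finset.mem_union_left _ (Finset.mem_filter.2 ⟨Finset.mem_univ _, hg⟩)
    have h1 := (Finset.card_le_card hcov).trans (Finset.card_union_le _ _)
    have h2 := Finset.card_image_le (s := S) (f := fun g => g * x₀⁻¹)
    rw [Finset.card_univ] at h1
    omega
  · push Not at hlin
    obtain ⟨x, y, hxy⟩ := hlin
    have hcov : (Finset.univ : Finset N) ⊆ S ∪ S.image (fun g => g * x⁻¹) ∪ S.image (fun g => g * y⁻¹) ∪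
        S.image (fun g => g * (x * y)⁻¹) := fun g _ => by
      by_contra hg
      simp only [Finset.mem_union, not_or] at hg
      obtain ⟨⟨⟨h0, h1⟩, h2⟩, h3⟩ := hg
      have e : ∀ t : N, g * t ∉ S → D.coef (g * t) = 1 := fun t ht => by
        by_contra hc
        exact ht (Finset.mem_filter.2 ⟨Finset.mem_univ _, hc⟩)
      have c0 : D.coef g = 1 := by simpa using e 1 (by simpa using h0)
      have c1 := e x fun h => h1 (Finset.mem_image.2 ⟨_, h, mul_inv_cancel_right g x⟩)
      have c2 := e y fun h => h2 (Finset.mem_image.2 ⟨_, h, mul_inv_cancel_right g y⟩)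
      have c3 := e (x * y) fun h => h3 (Finset.mem_image.2 ⟨_, h, mul_inv_cancel_right g (x * y)⟩)
      rw [D.coef_mul, c0, one_mul] at c2
      rw [← mul_assoc, D.coef_mul, c1, one_mul] at c3
      apply hxy
      have hχ : ⁅(g * x)⁻¹ * D.φ (g * x), y⁆ = ⁅g⁻¹ * D.φ g, y⁆ * ⁅x⁻¹ * D.φ x, y⁆ := by
        have e1 : (g * x)⁻¹ * D.φ (g * x) = ⁅x⁻¹, g⁻¹ * D.φ g⁆ * (g⁻¹ * D.φ g) * (x⁻¹ * D.φ x) := by
          rw [map_mul, commutatorElement_def]; group
        have e2 : ⁅⁅x⁻¹, g⁻¹ * D.φ g⁆, y⁆ = 1 := commutatorElement_eq_one_iff_mul_comm.2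
          (Subgroup.mem_center_iff.1 (mem_center_of_commutator D.hcl _ _) y).symm
        rw [e1, Cfsg.Lib.PGroup.commutatorElement_mul_left D.hcl,
          Cfsg.Lib.PGroup.commutatorElement_mul_left D.hcl, e2, one_mul]
      rw [hχ, ← mul_assoc, c2, one_mul] at c3
      exact c3
    have h1 := (Finset.card_le_card hcov).trans ((Finset.card_union_le _ _).trans (Nat.add_le_add_right
      ((Finset.card_union_le _ _).trans (Nat.add_le_add_right (Finset.card_union_le _ _) _)) _))
    have h2 := Finset.card_image_le (s := S) (f := fun g => g * x⁻¹)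
    have h3 := Finset.card_image_le (s := S) (f := fun g => g * y⁻¹)
    have h4 := Finset.card_image_le (s := S) (f := fun g => g * (x * y)⁻¹)
    rw [Finset.card_univ] at h1
    omega

section Eigenspaces

variable {N : Type v} {V : Type v} [Group N] [AddCommGroup V] [DistribMulAction N V] (U : Subgroup N) (v₀ : V)

theorem eigSpace_eq_of_centralizer (hcl : commutator N ≤ Subgroup.center N) (hCU : Subgroup.center N ≤ U)
    {x x' : N} (h : x⁻¹ * x' ∈ Subgroup.centralizer (U : Set N)) :
    eigSpace U v₀ x' = eigSpace U v₀ x := by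
  have key : ∀ y ∈ U, x'⁻¹ * y * x' = x⁻¹ * y * x := fun y hy => by
    have hc := Subgroup.mem_centralizer_iff.1 h _ (conj_mem_of_center_le U hcl hCU hy x)
    calc x'⁻¹ * y * x' = (x⁻¹ * x')⁻¹ * ((x⁻¹ * y * x) * (x⁻¹ * x')) := by group
      _ = _ := by rw [hc, inv_mul_cancel_left]
  ext w
  exact ⟨fun hw y hy k hk e => hw y hy k hk ((key y hy).symm ▸ e),
    fun hw y hy k hk e => hw y hy k hk ((key y hy) ▸ e)⟩

end Eigenspaces

variable {A V : Type v} [Group A] [Finite A] [AddCommGroup V] [Finite V] [DistribMulAction A V]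

theorem quasiprimitive [FaithfulSMul A V] [Nontrivial V] [Group.IsSolvable A] {p : ℕ} [Fact p.Prime]
    (hp : ∀ x : V, p • x = 0)
    (hfpf : ∀ B : Subgroup A, B.Normal → IsMulCommutative B → FixedPointFree V B)
    (hcol : ∀ (G Ω : Type v) [Group G] [Finite G] [Group.IsSolvable G] [Finite Ω] [MulAction G Ω],
      Nat.card Ω < Nat.card V → ∃ f : Ω → Fin 5, ColRegular G f) :
    ∃ v₁ v₂ v₃ : V, ∀ a : A, a • v₁ = v₁ → a • v₂ = v₂ → a • v₃ = v₃ → a = 1 := by
  classical
  obtain ⟨N, hN, hN2, hCN⟩ := Cfsg.Agent.S5876.exists_classTwo A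
  haveI := hN
  have hcl : commutator N ≤ Subgroup.center N := by
    rw [commutator_def, Subgroup.commutator_le]
    intro x _ y _
    refine Subgroup.mem_center_iff.2 fun g => Subtype.ext ?_
    exact Subgroup.mem_centralizer_iff.1 (hN2 x x.2 y y.2) g g.2
  have hfpf' : ∀ B : Subgroup N, B.Characteristic → IsMulCommutative B → FixedPointFree V B := by
    intro B hB hBab b hb w hw hbw
    have h1 : (B.map N.subtype).Normal := inferInstance
    have h2 : IsMulCommutative (B.map N.subtype) := Subgroup.map_isMulCommutative B _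
    exact Subtype.ext (hfpf _ h1 h2 b ⟨b, hb, rfl⟩ w hw hbw)
  have hcyc : ∀ B : Subgroup N, B.Characteristic → IsMulCommutative B → IsCyclic B :=
    fun B hB hBab => isCyclic_of_fpf hBab (hfpf' B hB hBab)
  have hC := hfpf' _ inferInstance (inferInstance : IsMulCommutative (Subgroup.center N))
  haveI := hcyc _ inferInstance (inferInstance : IsMulCommutative (Subgroup.center N))
  obtain ⟨zc, hzc⟩ := IsCyclic.exists_generator (α := Subgroup.center N)
  set z : N := (zc : N) with hz
  have hzC : Subgroup.zpowers z = Subgroup.center N :=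
    le_antisymm (Subgroup.zpowers_le.2 zc.2) fun c hc => by
      obtain ⟨i, hi⟩ := Subgroup.mem_zpowers_iff.1 (hzc ⟨c, hc⟩)
      exact ⟨i, congrArg Subtype.val hi⟩
  set n := Nat.card (Subgroup.center N)
  obtain ⟨U, hCU, hab, hexp, hmax⟩ := exists_maximal_exp (N := N)
  obtain ⟨v₀, u₀, hv₀, heig', hu₀, hslot⟩ := exists_slots hcl hcyc hC hp hCU hab hexp hmax
  have hne : ∀ (x : N), x • v₀ ≠ 0 := fun x h => hv₀ (by simpa using congrArg (x⁻¹ • ·) h)
  have hline : ∀ x : N, (∃ k ∈ Subgroup.center N, x • v₀ = k • v₀) → x ∈ U := by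
    rintro x ⟨k, hk, hx⟩
    have hk'g : ∀ {c : N}, c ∈ Subgroup.center N → ∀ g, g * c = c * g := fun hc g =>
      Subgroup.mem_center_iff.1 hc g
    refine hmax x ?_ fun y hy => ?_
    · have hpow : ∀ i : ℕ, x ^ i • v₀ = k ^ i • v₀ := fun i => by
        induction i with
        | zero => rw [pow_zero, pow_zero]
        | succ i ih =>
          rw [pow_succ', pow_succ', mul_smul, ih, smul_smul, hk'g (pow_mem hk i) x, mul_smul, hx, smul_smul,
            hk'g hk (k ^ i)]
      refine hC.eq_of_smul_eq (pow_mem_center hcl x) (one_mem _) hv₀ ?_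
      rw [hpow, show k ^ n = 1 from congrArg Subtype.val (pow_card_eq_one' (x := (⟨k, hk⟩ : Subgroup.center N)))]
    obtain ⟨k', hk', hy'⟩ := heig' y hy
    have hγ := mem_center_of_commutator hcl y⁻¹ x⁻¹
    have h2 : (x⁻¹ * y * x) • v₀ = k' • v₀ :=
      calc (x⁻¹ * y * x) • v₀ = x⁻¹ • y • k • v₀ := by rw [mul_smul, mul_smul, hx]
        _ = x⁻¹ • k • y • v₀ := by rw [← mul_smul y, hk'g hk y, mul_smul]
        _ = x⁻¹ • k' • k • v₀ := by rw [hy', ← mul_smul k, ← hk'g hk k', mul_smul]
        _ = x⁻¹ • k' • x • v₀ := by rw [hx]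
        _ = k' • v₀ := by rw [← mul_smul k', ← hk'g hk' x, mul_smul, inv_smul_smul]
    have h3 : x⁻¹ * y * x = ⁅y⁻¹, x⁻¹⁆ * y := by
      rw [← hk'g hγ y, commutatorElement_def]; group
    rw [h3, mul_smul, hy'] at h2
    have h4 := hC.eq_of_smul_eq hγ (one_mem _) (hne k') (by rw [one_smul]; exact h2)
    rw [commutatorElement_eq_one_iff_mul_comm] at h4
    exact (Commute.inv_inv_iff.1 (h4 : Commute y⁻¹ x⁻¹)).symm
  set Dc := Subgroup.centralizer (U : Set N) with hDc
  have hUD : U ≤ Dc := fun y hy => Subgroup.mem_centralizer_iff.2 fun g hg =>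
    congrArg Subtype.val (mul_comm' (⟨g, hg⟩ : U) ⟨y, hy⟩)
  haveI hDn : Dc.Normal := ⟨fun y hy x => by
    have := conj_mem_of_center_le Dc hcl (hCU.trans hUD) hy x⁻¹
    rwa [inv_inv] at this⟩
  -- automorphisms
  let conj : A →* MulAut N := MulAut.conjNormal
  have hconj : ∀ (a : A) (x : N) (w : V), a • x • w = conj a x • a • w := fun a x w => by
    show a • (x : A) • w = ((conj a x : N) : A) • a • w
    rw [show ((conj a x : N) : A) = a * x * a⁻¹ from MulAut.conjNormal_apply a x, smul_smul, smul_smul]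
    congr 1
    group
  have hconjC : ∀ (a : A) (k : N), k ∈ Subgroup.center N → conj a k ∈ Subgroup.center N := fun a k hk =>
    Subgroup.characteristic_iff_le_comap.1 inferInstance (conj a) hk
  let H := stabilizer A v₀
  have hHU : ∀ a : H, ∀ y ∈ U, conj (a : A) y ∈ U := fun a y hy => by
    obtain ⟨k, hk, hyk⟩ := heig' y hy
    refine hline _ ⟨conj (a : A) k, hconjC _ _ hk, ?_⟩
    conv_lhs => rw [← mem_stabilizer_iff.1 a.2, ← hconj, hyk, hconj, mem_stabilizer_iff.1 a.2]
  have hback : ∀ (a : H) (y : N), conj (a : A) (conj ((a⁻¹ : H) : A) y) = y := fun a y => by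
    show conj (a : A) (conj ((a : A)⁻¹) y) = y
    rw [map_inv, MulAut.apply_inv_self]
  have hHD : ∀ a : H, Dc ≤ Dc.comap (conj (a : A)).toMonoidHom := fun a d hd => by
    refine Subgroup.mem_centralizer_iff.2 fun y hy => ?_
    show y * conj (a : A) d = conj (a : A) d * y
    rw [← hback a y, ← map_mul, ← map_mul, Subgroup.mem_centralizer_iff.1 hd _ (hHU a⁻¹ y hy)]
  let Q := N ⧸ Dc
  letI : MulAction H Q :=
    { smul := fun a q => QuotientGroup.map Dc Dc (conj (a : A)).toMonoidHom (hHD a) q
      one_smul := fun q => by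
        induction q using QuotientGroup.induction_on with
        | H x => show ((conj (1 : A) x : N) : Q) = x; rw [map_one]; rfl
      mul_smul := fun a b q => by
        induction q using QuotientGroup.induction_on with
        | H x => show ((conj ((a : A) * b) x : N) : Q) = ((conj (a : A) (conj (b : A) x) : N) : Q)
                 rw [map_mul]; rfl }
  have hmk : ∀ (a : H) (x : N), a • (x : Q) = ((conj (a : A) x : N) : Q) := fun a x => rfl
  have hH1 : ∀ a : H, a • (1 : Q) = 1 := fun a =>
    map_one (QuotientGroup.map Dc Dc (conj (a : A)).toMonoidHom (hHD a))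
  have hout : ∀ x : N, (x : Q).out⁻¹ * x ∈ Dc := fun x => QuotientGroup.eq.1 (QuotientGroup.out_eq' (x : Q))
  have hlt : Nat.card Q < Nat.card V := by
    let j : Q → {w : V // w ≠ 0} := fun q => ⟨q.out • v₀, hne _⟩
    have hj : Function.Injective j := fun q q' h => by
      have h1 : q.out • v₀ = q'.out • v₀ := congrArg Subtype.val h
      have h2 : q'.out⁻¹ * q.out ∈ Dc :=
        hUD (hline _ ⟨1, one_mem _, by rw [mul_smul, h1, inv_smul_smul, one_smul]⟩)
      rw [← QuotientGroup.out_eq' q, ← QuotientGroup.out_eq' q']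
      exact (QuotientGroup.eq.2 h2).symm
    exact lt_of_le_of_lt (Nat.card_le_card_of_injective j hj)
      (Finite.card_subtype_lt (p := fun w : V => w ≠ 0) (x := 0) (not_not.2 rfl))
  obtain ⟨f, hf⟩ := hcol H Q hlt
  -- the colours
  let P₂ : Fin 5 → V → V := fun j w => if j = 0 then 0 else if j = 2 then 0 else w
  let P₃ : Fin 5 → V → V := fun j w => if j = 0 then 0 else if j = 1 then 0 else if j = 4 then z • w else w
  let F₂ : Fin 5 → Q → V := fun i q => if q = 1 then z • v₀ else P₂ (f q - i) (q.out • v₀)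
  let F₃ : Fin 5 → Q → V := fun i q => if q = 1 then u₀ else P₃ (f q - i) (q.out • v₀)
  haveI := Fintype.ofFinite Q
  let E : Q → AddSubgroup V := fun q => eigSpace U v₀ q.out
  have hE : ∀ x : N, E (x : Q) = eigSpace U v₀ x := fun x =>
    (eigSpace_eq_of_centralizer U v₀ hcl hCU (hout x)).symm
  have hzE : ∀ w, ∀ q, w ∈ E q → z • w ∈ E q := fun w q hw y hy k hk e => by
    rw [smul_smul, Subgroup.mem_center_iff.1 zc.2 y, mul_smul, hw y hy k hk e, smul_smul, smul_smul,
      Subgroup.mem_center_iff.1 hk z]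
  have hE1 : E 1 = eigSpace U v₀ 1 := hE 1
  have hv₀E : v₀ ∈ E 1 := by rw [hE1]; simpa using smul_mem_eigSpace U v₀ 1
  have hu₀E : u₀ ∈ E 1 := by
    rw [hE1]
    intro y hy k hk e
    exact hu₀ y hy k hk (by simpa using e)
  have hF₂E : ∀ i q, F₂ i q ∈ E q := fun i q => by
    simp only [F₂, P₂]
    split_ifs with h1 h2 h3
    · subst h1; exact hzE _ _ hv₀E
    · exact zero_mem _
    · exact zero_mem _
    · exact smul_mem_eigSpace U v₀ _
  have hF₃E : ∀ i q, F₃ i q ∈ E q := fun i q => by
    simp only [F₃, P₃]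
    split_ifs with h1 h2 h3 h4
    · subst h1; exact hu₀E
    · exact zero_mem _
    · exact zero_mem _
    · exact hzE _ _ (smul_mem_eigSpace U v₀ _)
    · exact smul_mem_eigSpace U v₀ _
  have hindep : ∀ (s : Finset Q) (G : Q → V), (∀ q ∈ s, G q ∈ E q) → ∑ q ∈ s, G q = 0 →
      ∀ q ∈ s, G q = 0 := by
    intro s
    induction s using Finset.induction with
    | empty => simp
    | insert q₀ s hq₀ ih =>
      intro G hG hsum
      rw [Finset.sum_insert hq₀] at hsum
      have hs : ∀ q ∈ s, G q = 0 := by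
        intro q hq
        have hneq : q ≠ q₀ := fun h => hq₀ (h ▸ hq)
        obtain ⟨y, hy, hy'⟩ : ∃ y ∈ U, q₀.out⁻¹ * y * q₀.out ≠ q.out⁻¹ * y * q.out := by
          by_contra hall
          push Not at hall
          apply hneq
          have hd : q.out * q₀.out⁻¹ ∈ Dc := Subgroup.mem_centralizer_iff.2 fun y hy => by
            symm
            calc q.out * q₀.out⁻¹ * y = q.out * (q₀.out⁻¹ * y * q₀.out) * q₀.out⁻¹ := by group
              _ = q.out * (q.out⁻¹ * y * q.out) * q₀.out⁻¹ := by rw [hall y hy]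
              _ = y * (q.out * q₀.out⁻¹) := by group
          rw [← QuotientGroup.out_eq' q, ← QuotientGroup.out_eq' q₀]
          refine (QuotientGroup.eq.2 ?_).symm
          have := hDn.conj_mem _ hd q₀.out⁻¹
          convert this using 1
          group
        have hev : ∀ q' : Q, ∃ k ∈ Subgroup.center N, (q'.out⁻¹ * y * q'.out) • v₀ = k • v₀ :=
          fun q' => heig' _ (conj_mem_of_center_le U hcl hCU hy _)
        obtain ⟨k₀, hk₀, e₀⟩ := hev q₀
        have hz0 : ∀ q' ∈ s, y • G q' - k₀ • G q' = 0 := by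
          refine ih (fun q' => y • G q' - k₀ • G q') (fun q' hq' => ?_) ?_
          · obtain ⟨k', hk', e'⟩ := hev q'
            show y • G q' - k₀ • G q' ∈ E q'
            rw [hG q' (Finset.mem_insert_of_mem hq') y hy k' hk' e']
            intro y₁ hy₁ c hc hc'
            have := hG q' (Finset.mem_insert_of_mem hq') y₁ hy₁ c hc hc'
            rw [smul_sub, smul_sub, smul_smul y₁, smul_smul y₁, Subgroup.mem_center_iff.1 hk' y₁,
              Subgroup.mem_center_iff.1 hk₀ y₁, mul_smul, mul_smul, this, smul_smul k', smul_smul k₀,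
              ← Subgroup.mem_center_iff.1 hk' c, ← Subgroup.mem_center_iff.1 hk₀ c, mul_smul, mul_smul]
          · have h0 := congrArg (fun w => y • w - k₀ • w) hsum
            simp only [smul_add, smul_zero, sub_zero, Finset.smul_sum,
              hG q₀ (Finset.mem_insert_self _ _) y hy k₀ hk₀ e₀, add_sub_add_left_eq_sub] at h0
            rw [Finset.sum_sub_distrib]
            exact h0
        obtain ⟨k', hk', e'⟩ := hev q
        have h := sub_eq_zero.1 (hz0 q hq)
        rw [hG q (Finset.mem_insert_of_mem hq) y hy k' hk' e'] at h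
        by_contra hg
        have hkk := hC.eq_of_smul_eq hk' hk₀ hg h
        apply hy'
        have hγ : ∀ q' : Q, q'.out⁻¹ * y * q'.out = ⁅y⁻¹, q'.out⁻¹⁆ * y := fun q' => by
          rw [← Subgroup.mem_center_iff.1 (mem_center_of_commutator hcl _ _) y, commutatorElement_def]; group
        rw [hγ q, hkk] at e'
        rw [hγ q₀] at e₀
        rw [← e'] at e₀
        rw [hγ q₀, hγ q, hC.eq_of_smul_eq (mem_center_of_commutator hcl _ _) (mem_center_of_commutator hcl _ _)
          (hne y) (by simpa only [mul_smul] using e₀)]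
      intro q hq
      rcases Finset.mem_insert.1 hq with rfl | hq
      · rw [Finset.sum_eq_zero hs, add_zero] at hsum; exact hsum
      · exact hs q hq
  have hmapE : ∀ (a : H) (q : Q) (w : V), w ∈ E q → (a : A) • w ∈ E (a • q) := fun a q w hw => by
    induction q using QuotientGroup.induction_on with
    | H x =>
      rw [hE] at hw
      rw [hmk, hE]
      intro y hy k hk e
      have hk' : conj ((a⁻¹ : H) : A) k ∈ Subgroup.center N := hconjC _ _ hk
      have h1 := hw (conj ((a⁻¹ : H) : A) y) (hHU a⁻¹ y hy) _ hk' ?_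
      · have h2 := congrArg (fun w => (a : A) • w) h1
        simp only [hconj, hback] at h2
        exact h2
      · refine smul_left_cancel (a : A) ?_
        rw [hconj, hconj, map_mul, map_mul, map_inv (conj (a : A)) x, hback, hback, mem_stabilizer_iff.1 a.2]
        exact e
  have hcomp : ∀ (F : Q → V), (∀ q, F q ∈ E q) → ∀ a : H, (a : A) • ∑ q, F q = ∑ q, F q →
      ∀ q, F (a • q) = (a : A) • F q := by
    intro F hF a ha q
    let G : Q → V := fun r => (a : A) • F (a⁻¹ • r) - F r
    have h0 := hindep Finset.univ G (fun r _ => sub_mem (by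
        have := hmapE a (a⁻¹ • r) _ (hF _); rwa [smul_inv_smul] at this) (hF r)) (by
      simp only [G, Finset.sum_sub_distrib, ← Finset.smul_sum]
      rw [show ∑ r : Q, F (a⁻¹ • r) = ∑ r : Q, F r from Equiv.sum_comp (MulAction.toPerm a⁻¹) F]
      exact sub_eq_zero.2 ha) (a • q) (Finset.mem_univ _)
    simp only [G, inv_smul_smul, sub_eq_zero] at h0
    exact h0.symm
  haveI := Fintype.ofFinite N
  -- the main step
  have key : ∀ i : Fin 5, ∀ a : A, a • v₀ = v₀ → a • ∑ q, F₂ i q = ∑ q, F₂ i q →
      a • ∑ q, F₃ i q = ∑ q, F₃ i q → a ≠ 1 →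
      Fintype.card N ≤ 4 * (Finset.univ.filter fun x : N => (x : Q) ≠ 1 ∧ f (x : Q) = i).card := by
    intro i a hav h₂ h₃ ha1
    set h : H := ⟨a, hav⟩ with hdef
    have c₂ := hcomp (F₂ i) (hF₂E i) h h₂
    have c₃ := hcomp (F₃ i) (hF₃E i) h h₃
    have hzfix : conj a z = z := by
      have h1 := c₂ 1
      rw [hH1] at h1
      simp only [F₂, if_true] at h1
      rw [hconj] at h1
      change z • v₀ = conj a z • a • v₀ at h1
      rw [hav] at h1
      exact hC.eq_of_smul_eq (hconjC a z zc.2) zc.2 hv₀ h1.symm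
    have hu : a • u₀ = u₀ := by
      have h1 := c₃ 1
      rw [hH1] at h1
      simp only [F₃, if_true] at h1
      exact h1.symm
    have hφC : ∀ k ∈ Subgroup.center N, conj a k = k := fun k hk => by
      rw [← hzC] at hk
      obtain ⟨e, rfl⟩ := hk
      simp only [map_zpow, hzfix]
    have hn1 : z ≠ 1 := fun h1 => ha1 (by
      have hbot : Subgroup.center N = ⊥ := by rw [← hzC, h1, Subgroup.zpowers_one_eq_bot]
      have hN1 : ∀ x : N, x = 1 := fun x => by
        have hcomm : ∀ g, Commute g x := fun g => commutatorElement_eq_one_iff_mul_comm.1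
          (Subgroup.mem_bot.1 (hbot ▸ mem_center_of_commutator hcl g x))
        exact Subgroup.mem_bot.1 (hbot ▸ Subgroup.mem_center_iff.2 fun g => (hcomm g).eq)
      exact congrArg Subtype.val (hN1 ⟨a, hCN (Subgroup.mem_centralizer_iff.2 fun g hg => by
        rw [show g = 1 from congrArg Subtype.val (hN1 ⟨g, hg⟩), one_mul, mul_one])⟩))
    have hcolour : ∀ q, f (h • q) = f q := fun q => by
      by_cases hq : q = 1
      · rw [hq, hH1]
      have hq' : h • q ≠ 1 := fun h' => hq (by rw [← inv_smul_smul h q, h', hH1])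
      have e₂ := c₂ q
      have e₃ := c₃ q
      simp only [F₂, F₃, if_neg hq, if_neg hq'] at e₂ e₃
      suffices f (h • q) - i = f q - i from sub_left_inj.1 this
      generalize f (h • q) - i = j' at *
      generalize f q - i = j at *
      have hw : a • q.out • v₀ ≠ 0 := fun h0 => hne q.out ((smul_eq_zero_iff_eq a).1 h0)
      have hw' := hne (h • q).out
      have hzne : ∀ w : V, w ≠ 0 → z • w ≠ w := fun w hw0 he => hn1 (hC z zc.2 w hw0 he)
      have haz : a • z • q.out • v₀ = z • a • q.out • v₀ := by rw [hconj, hzfix]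
      have hzne0 : z • a • q.out • v₀ ≠ 0 := fun h0 => hw ((smul_eq_zero_iff_eq z).1 h0)
      have hzne0' : z • (h • q).out • v₀ ≠ 0 := fun h0 => hw' ((smul_eq_zero_iff_eq z).1 h0)
      have hae : ∀ w : V, ((h : A) • w : V) = a • w := fun w => rfl
      fin_cases j <;> fin_cases j' <;> first
        | rfl
        | (simp [P₂, P₃, hae, haz, hw, hw', hzne0, hzne0', Ne.symm hw, Ne.symm hw', Ne.symm hzne0,
            Ne.symm hzne0'] at e₂ e₃; done)
        | (simp [P₂, P₃, hae, haz] at e₂ e₃; exact absurd (e₃.symm.trans e₂) (hzne _ hw))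
        | (simp [P₂, P₃, hae, haz] at e₂ e₃; exact absurd (e₃.trans e₂.symm) (hzne _ hw'))
    have hperm : ∀ q : Q, h • q = q := hf h hcolour
    have hdfix : ∀ d ∈ Dc, conj a d • v₀ = d • v₀ := fun d hd => by
      let W : AddSubgroup V :=
        { carrier := {w | a • w = w}
          add_mem' := fun {x y} hx hy => by
            show a • (x + y) = x + y
            rw [smul_add, show a • x = x from hx, show a • y = y from hy]
          zero_mem' := smul_zero a
          neg_mem' := fun {x} hx => by
            show a • -x = -x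
            rw [smul_neg, show a • x = x from hx] }
      have h1 : a • d • v₀ = d • v₀ := hslot W hav hu (fun k hk w hw => by
        show a • k • w = k • w
        rw [hconj, hφC k hk, show a • w = w from hw]) d hd
      rwa [hconj, hav] at h1
    let T : Finset N := Finset.univ.filter fun x : N => conj a x • v₀ = x • v₀
    have hT : ∀ {x : N}, x ∈ T ↔ conj a x • v₀ = x • v₀ := fun {x} => by simp [T]
    have hTU : ∀ x ∈ T, x⁻¹ * conj a x ∈ U := fun x hx => hline _ ⟨1, one_mem _, by
      rw [mul_smul, hT.1 hx, inv_smul_smul, one_smul]⟩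
    have hsub : (Finset.univ.filter fun x : N => x ∉ T) ⊆
        Finset.univ.filter fun x : N => (x : Q) ≠ 1 ∧ f (x : Q) = i := by
      intro x hx
      rw [Finset.mem_filter] at hx ⊢
      refine ⟨Finset.mem_univ _, ?_⟩
      by_contra hcon
      apply hx.2
      by_cases h1 : (x : Q) = 1
      · exact hT.2 (hdfix x ((QuotientGroup.eq_one_iff x).1 h1))
      have hfi : f (x : Q) - i ≠ 0 := sub_ne_zero.2 fun he => hcon ⟨h1, he⟩
      set o := (x : Q).out with ho
      have e₂ := c₂ (x : Q)
      have e₃ := c₃ (x : Q)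
      rw [hperm] at e₂ e₃
      simp only [F₂, F₃, if_neg h1] at e₂ e₃
      have hoT : o ∈ T := by
        rw [hT]
        conv_lhs => rw [← hav, ← hconj]
        have hae : ∀ w : V, ((h : A) • w : V) = a • w := fun w => rfl
        by_cases h2 : f (x : Q) - i = 2
        · simp only [P₃, h2, hae] at e₃
          simpa using e₃.symm
        · simp only [P₂, if_neg hfi, if_neg h2, hae] at e₂
          exact e₂.symm
      have hd : o⁻¹ * x ∈ Dc := hout x
      rw [hT, ← mul_inv_cancel_left o x, map_mul, mul_smul, hdfix _ hd]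
      set χ := o⁻¹ * conj a o
      have hχ : χ ∈ U := hTU o hoT
      have hχv : χ • v₀ = v₀ := by rw [mul_smul, hT.1 hoT, inv_smul_smul]
      calc conj a o • (o⁻¹ * x) • v₀ = (o * (χ * (o⁻¹ * x))) • v₀ := by
            rw [smul_smul]; congr 1; simp only [χ]; group
        _ = (o * ((o⁻¹ * x) * χ)) • v₀ := by rw [Subgroup.mem_centralizer_iff.1 hd χ hχ]
        _ = _ := by rw [← mul_assoc o, mul_smul, hχv]
    refine le_trans ?_ (Nat.mul_le_mul_left 4 (Finset.card_le_card hsub))
    -- the elements moving the translates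
    by_cases hK : ∀ x : N, x⁻¹ * conj a x ∈ U
    · let D : QuadData N V :=
        { U := U, w₀ := v₀, φ := conj a, hcl := hcl, hCU := hCU, hfpf := hC, hw₀ := hv₀, heig := heig',
          hφC := hφC, hφU := fun y hy => hdfix y (hUD hy), hφx := hK }
      have hset : (Finset.univ.filter fun x : N => x ∉ T) = Finset.univ.filter fun x => D.coef x ≠ 1 := by
        refine Finset.filter_congr fun x _ => not_congr ?_
        exact hT.trans (D.coef_eq_one_iff x).symm
      rw [hset]
      refine card_le_four_mul D ?_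
      by_contra hall
      push Not at hall
      have hid := D.eq_self_of_coef_eq_one hall
      refine ha1 ?_
      have hcen : a ∈ Subgroup.centralizer (N : Set A) := Subgroup.mem_centralizer_iff.2 fun g hg => by
        have h1 : ((conj a ⟨g, hg⟩ : N) : A) = g := congrArg Subtype.val (hid ⟨g, hg⟩)
        rw [show ((conj a ⟨g, hg⟩ : N) : A) = a * g * a⁻¹ from MulAut.conjNormal_apply a _,
          mul_inv_eq_iff_eq_mul] at h1
        exact h1.symm
      have hcC : (⟨a, hCN hcen⟩ : N) ∈ Subgroup.center N := Subgroup.mem_center_iff.2 fun g =>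
        Subtype.ext (Subgroup.mem_centralizer_iff.1 hcen g g.2)
      exact congrArg Subtype.val (hC _ hcC v₀ hv₀ hav)
    · have hUn : U.Normal := ⟨fun y hy x => by
        have := conj_mem_of_center_le U hcl hCU hy x⁻¹
        rwa [inv_inv] at this⟩
      let K : Subgroup N :=
        { carrier := {x | x⁻¹ * conj a x ∈ U}
          one_mem' := by simp
          mul_mem' := fun {x y} hx hy => by
            show (x * y)⁻¹ * conj a (x * y) ∈ U
            rw [map_mul, show (x * y)⁻¹ * (conj a x * conj a y) =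
              (y⁻¹ * (x⁻¹ * conj a x) * y) * (y⁻¹ * conj a y) by group]
            exact mul_mem (by simpa using hUn.conj_mem _ hx y⁻¹) hy
          inv_mem' := fun {x} hx => by
            show x⁻¹⁻¹ * conj a x⁻¹ ∈ U
            rw [map_inv, show x⁻¹⁻¹ * (conj a x)⁻¹ = x * (x⁻¹ * conj a x)⁻¹ * x⁻¹ by group]
            exact hUn.conj_mem _ (inv_mem hx) x }
      push Not at hK
      obtain ⟨x₀, hx₀⟩ := hK
      have hcov : (Finset.univ : Finset N) ⊆ (Finset.univ.filter fun x : N => x ∉ T) ∪
          (Finset.univ.filter fun x : N => x ∉ T).image (fun g => g * x₀⁻¹) := fun g _ => by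
        by_cases hg : g ∈ T
        · refine Finset.mem_union_right _ (Finset.mem_image.2 ⟨g * x₀,
            Finset.mem_filter.2 ⟨Finset.mem_univ _, fun h' => hx₀ ?_⟩, mul_inv_cancel_right g x₀⟩)
          exact (K.mul_mem_cancel_left (hTU g hg)).1 (hTU _ h')
        · exact Finset.mem_union_left _ (Finset.mem_filter.2 ⟨Finset.mem_univ _, hg⟩)
      have h1 := (Finset.card_le_card hcov).trans (Finset.card_union_le _ _)
      have h2 := Finset.card_image_le (s := Finset.univ.filter fun x : N => x ∉ T) (f := fun g => g * x₀⁻¹)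
      rw [Finset.card_univ] at h1
      omega
  by_contra hnone
  push Not at hnone
  have hall : ∀ i : Fin 5, Fintype.card N ≤
      4 * (Finset.univ.filter fun x : N => f (x : Q) = i).card := fun i => by
    obtain ⟨a, h1, h2, h3, hne'⟩ := hnone v₀ (∑ q, F₂ i q) (∑ q, F₃ i q)
    refine (key i a h1 h2 h3 hne').trans (Nat.mul_le_mul_left 4 (Finset.card_le_card fun x hx => ?_))
    rw [Finset.mem_filter] at hx ⊢
    exact ⟨hx.1, hx.2.2⟩
  have hsum : Fintype.card N = ∑ i : Fin 5, (Finset.univ.filter fun x : N => f (x : Q) = i).card :=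
    Finset.card_eq_sum_card_fiberwise fun x _ => Finset.mem_univ _
  have h5 : ∑ _i : Fin 5, Fintype.card N ≤ ∑ i : Fin 5, 4 * (Finset.univ.filter fun x : N => f (x : Q) = i).card :=
    Finset.sum_le_sum fun i _ => hall i
  rw [Finset.sum_const, Finset.card_univ, Fintype.card_fin, smul_eq_mul, ← Finset.mul_sum, ← hsum] at h5
  have := Fintype.card_pos (α := N)
  omega

end Cfsg.Lib.SolvBase
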