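import Cfsg.Agent.Lib.SolvBase.Exponent
import Cfsg.Agent.Lib.OddBase.QuasiPrimitive
import Mathlib.Algebra.Module.ZMod
import Mathlib.FieldTheory.Finite.Basic

/-!
An abelian subgroup of maximal size with exponent dividing the order of the centre, an eigenvector of it, and a
second vector controlling its centraliser.
-/

set_option autoImplicit false
set_option linter.unusedSectionVars false
set_option linter.style.haveILetI false

namespace Cfsg.Lib.SolvBase

open scoped commutatorElement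
open Cfsg.Lib.PGroup Cfsg.Lib.OddBase

universe u v

variable {N : Type u} [Group N] [Finite N]

/-- A maximal one among the abelian subgroups above the centre whose exponent divides the order of the centre. -/
theorem exists_maximal_exp :
    ∃ U : Subgroup N, Subgroup.center N ≤ U ∧ IsMulCommutative U ∧
      (∀ y ∈ U, y ^ Nat.card (Subgroup.center N) = 1) ∧
      ∀ x, x ^ Nat.card (Subgroup.center N) = 1 → (∀ y ∈ U, Commute x y) → x ∈ U := by
  set n := Nat.card (Subgroup.center N)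
  obtain ⟨U, hU⟩ := Set.Finite.exists_maximal
    (s := {U : Subgroup N | Subgroup.center N ≤ U ∧ IsMulCommutative U ∧ ∀ y ∈ U, y ^ n = 1}) (Set.toFinite _)
    ⟨Subgroup.center N, le_rfl, inferInstance, fun y hy =>
      congrArg Subtype.val (pow_card_eq_one' (x := (⟨y, hy⟩ : Subgroup.center N)))⟩
  obtain ⟨hCU, hab, hexp⟩ := hU.prop
  refine ⟨U, hCU, hab, hexp, fun x hxn hx => ?_⟩
  let s : Set N := insert x (U : Set N)
  have hs : ∀ a ∈ s, ∀ b ∈ s, Commute a b := by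
    intro a ha b hb
    rcases ha with rfl | ha <;> rcases hb with rfl | hb
    · exact Commute.refl _
    · exact hx b hb
    · exact (hx a ha).symm
    · exact congrArg Subtype.val (mul_comm' (⟨a, ha⟩ : U) ⟨b, hb⟩)
  have h1 : Subgroup.closure s ≤ Subgroup.centralizer s :=
    (Subgroup.closure_le _).2 fun a ha => Subgroup.mem_centralizer_iff.2 fun b hb => hs b hb a ha
  have h3 : ∀ a ∈ Subgroup.closure s, ∀ b ∈ Subgroup.closure s, Commute a b := fun a ha b hb => by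
    have h4 : Subgroup.closure s ≤ Subgroup.centralizer {b} :=
      (Subgroup.closure_le _).2 fun c hc => Subgroup.mem_centralizer_iff.2 fun d hd => by
        rw [Set.mem_singleton_iff.1 hd]
        exact (Subgroup.mem_centralizer_iff.1 (h1 hb) c hc).symm
    exact (Subgroup.mem_centralizer_iff.1 (h4 ha) b rfl).symm
  have h2 : IsMulCommutative (Subgroup.closure s) :=
    ⟨⟨fun a b => Subtype.ext (h3 a a.2 b b.2)⟩⟩
  have h5 : ∀ y ∈ Subgroup.closure s, y ^ n = 1 := fun y hy => by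
    induction hy using Subgroup.closure_induction with
    | mem a ha => rcases ha with rfl | ha; exacts [hxn, hexp a ha]
    | one => exact one_pow n
    | mul a b ha hb iha ihb => rw [(h3 a ha b hb).mul_pow, iha, ihb, mul_one]
    | inv a _ iha => rw [inv_pow, iha, inv_one]
  have hle : U ≤ Subgroup.closure s := fun y hy => Subgroup.subset_closure (Set.mem_insert_of_mem _ hy)
  exact (hU.le_of_ge ⟨hCU.trans hle, h2, h5⟩ hle) (Subgroup.subset_closure (Set.mem_insert _ _))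

variable {V : Type v} [AddCommGroup V] [Finite V] [DistribMulAction N V]

/-- An eigenvector `v₀` and a second vector `u₀` of the same eigenvalues such that every subgroup containing both and
invariant under the centre contains all translates of `v₀` by the centraliser. -/
theorem exists_slots [Nontrivial V] (hcl : commutator N ≤ Subgroup.center N)
    (hcyc : ∀ B : Subgroup N, B.Characteristic → IsMulCommutative B → IsCyclic B)
    (hfpf : FixedPointFree V (Subgroup.center N)) {p : ℕ} [Fact p.Prime] (hp : ∀ x : V, p • x = 0)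
    {U : Subgroup N} (hCU : Subgroup.center N ≤ U) (hab : IsMulCommutative U)
    (hexp : ∀ y ∈ U, y ^ Nat.card (Subgroup.center N) = 1)
    (hmax : ∀ x, x ^ Nat.card (Subgroup.center N) = 1 → (∀ y ∈ U, Commute x y) → x ∈ U) :
    ∃ v₀ u₀ : V, v₀ ≠ 0 ∧ (∀ y ∈ U, ∃ k ∈ Subgroup.center N, y • v₀ = k • v₀) ∧
      (∀ y ∈ U, ∀ k ∈ Subgroup.center N, y • v₀ = k • v₀ → y • u₀ = k • u₀) ∧
      ∀ W : AddSubgroup V, v₀ ∈ W → u₀ ∈ W → (∀ k ∈ Subgroup.center N, ∀ w ∈ W, k • w ∈ W) →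
        ∀ d ∈ Subgroup.centralizer (U : Set N), d • v₀ ∈ W := by
  classical
  set n := Nat.card (Subgroup.center N) with hn
  set D := Subgroup.centralizer (U : Set N)
  haveI := hcyc _ inferInstance (inferInstance : IsMulCommutative (Subgroup.center N))
  obtain ⟨zc, hzc⟩ := IsCyclic.exists_generator (α := Subgroup.center N)
  have hzC : Subgroup.zpowers (zc : N) = Subgroup.center N :=
    le_antisymm (Subgroup.zpowers_le.2 zc.2) fun c hc => by
      obtain ⟨i, hi⟩ := Subgroup.mem_zpowers_iff.1 (hzc ⟨c, hc⟩)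
      exact ⟨i, congrArg Subtype.val hi⟩
  have hzn : orderOf (zc : N) = n := by rw [← Nat.card_zpowers, hzC]
  obtain ⟨w₀, hw₀, heig⟩ := exists_eigenvector (V := V) hab (hCU zc.2) (by rw [hzC]; exact hfpf)
    (fun y hy => by rw [hzn]; exact hexp y hy)
  rw [hzC] at heig
  have hDc : ∀ d ∈ D, ∀ y ∈ U, Commute d y := fun d hd y hy =>
    (Subgroup.mem_centralizer_iff.1 hd y hy).symm
  have heigD : ∀ d ∈ D, ∀ w : V, ∀ y ∈ U, ∀ k ∈ Subgroup.center N, y • w = k • w → y • d • w = k • d • w :=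
    fun d hd w y hy k hk h => by
      rw [smul_smul, ← (hDc d hd y hy).eq, mul_smul, h, smul_smul, Subgroup.mem_center_iff.1 hk d, mul_smul]
  have hmemU : ∀ (W : AddSubgroup V), (∀ k ∈ Subgroup.center N, ∀ w ∈ W, k • w ∈ W) → ∀ (v : V),
      (∀ y ∈ U, ∃ k ∈ Subgroup.center N, y • v = k • v) → ∀ e : N, e • v ∈ W → ∀ d : N, e⁻¹ * d ∈ U →
        d • v ∈ W := fun W hW v hv e he d hd => by
    obtain ⟨k, hk, hk'⟩ := hv _ hd
    rw [← mul_inv_cancel_left e d, mul_smul, hk', smul_smul, Subgroup.mem_center_iff.1 hk e, mul_smul]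
    exact hW k hk _ he
  by_cases hD1 : ∀ d ∈ D, d ∈ U
  · exact ⟨w₀, 0, hw₀, heig, fun y _ k _ _ => by rw [smul_zero, smul_zero],
      fun W hv _ hW d hd => hmemU W hW w₀ heig 1 (by rwa [one_smul]) d (by simpa using hD1 d hd)⟩
  push Not at hD1
  obtain ⟨x₁, hx₁, hx₁U⟩ := hD1
  -- the exceptional structure
  obtain ⟨⟨m, hm, hnm⟩, hsq⟩ := (pow_card_center_dichotomy hcl hcyc).resolve_left
    fun h => hx₁U (hmax x₁ (h x₁) (hDc x₁ hx₁))
  have hc := mem_center_of_commutator hcl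
  have hcn : ∀ c ∈ Subgroup.center N, c ^ n = 1 := fun c hc' =>
    congrArg Subtype.val (pow_card_eq_one' (x := (⟨c, hc'⟩ : Subgroup.center N)))
  set ε := x₁ ^ n with hε
  have hεC : ε ∈ Subgroup.center N := pow_mem_center hcl x₁
  have hε2 : ε ^ 2 = 1 := hsq x₁
  have hεne : ε ≠ 1 := fun h => hx₁U (hmax x₁ h (hDc x₁ hx₁))
  have hεuniq : ∀ c ∈ Subgroup.center N, c ^ 2 = 1 → c ≠ 1 → c = ε := by
    intro c hc hc2 hc1
    by_contra hne
    haveI := Fintype.ofFinite (Subgroup.center N)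
    have h3 : ({(1 : Subgroup.center N), ⟨c, hc⟩, ⟨ε, hεC⟩} : Finset _) ⊆
        Finset.univ.filter fun y : Subgroup.center N => y ^ 2 = 1 := by
      intro y hy
      simp only [Finset.mem_insert, Finset.mem_singleton] at hy
      refine Finset.mem_filter.2 ⟨Finset.mem_univ _, Subtype.ext ?_⟩
      rcases hy with rfl | rfl | rfl <;> simp [hc2, hε2]
    have h4 := (Finset.card_le_card h3).trans (IsCyclic.card_pow_eq_one_le two_pos)
    rw [Finset.card_insert_of_notMem (by simp [Subtype.ext_iff, Ne.symm hc1, Ne.symm hεne]),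
      Finset.card_insert_of_notMem (by simp [Subtype.ext_iff, hne]), Finset.card_singleton] at h4
    omega
  have hout : ∀ d ∈ D, d ∉ U → d ^ n = ε := fun d hd hdU =>
    hεuniq _ (pow_mem_center hcl d) (hsq d) fun h => hdU (hmax d h (hDc d hd))
  have hch : ∀ a b : N, (a * b) ^ n = a ^ n * b ^ n * ⁅b, a⁆ ^ n.choose 2 := fun a b =>
    mul_pow_of_class_two hcl a b n
  have hεsq : ε * ε = 1 := by rw [← pow_two]; exact hε2
  have hDU : U ≤ D := fun y hy => Subgroup.mem_centralizer_iff.2 fun g hg =>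
    congrArg Subtype.val (mul_comm' (⟨g, hg⟩ : U) ⟨y, hy⟩)
  have hsqU : ∀ d ∈ D, d * d ∈ U := fun d hd => by
    refine hmax _ ?_ fun y hy => (hDc d hd y hy).mul_left (hDc d hd y hy)
    rw [← pow_two, ← pow_mul, mul_comm, pow_mul]; exact hsq d
  -- normalise the representative
  set d₁ := x₁ ^ m with hd₁
  have hd₁D : d₁ ∈ D := pow_mem hx₁ m
  have hd₁sq : d₁ * d₁ = ε := by
    rw [hd₁, hε, show n = 2 * m from hnm, ← pow_add, two_mul]
  have hd₁U : d₁ ∉ U := fun h => hεne (by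
    obtain ⟨l, hl⟩ := hm
    have h1 : (x₁ * x₁) ^ l ∈ U := pow_mem (hsqU x₁ hx₁) l
    refine absurd ?_ hx₁U
    rw [hd₁, hl, pow_succ, pow_mul, pow_two] at h
    exact (Subgroup.mul_mem_cancel_left U h1).1 h)
  by_cases hD2 : ∀ d ∈ D, d ∈ U ∨ d₁⁻¹ * d ∈ U
  · refine ⟨w₀, d₁ • w₀, hw₀, heig, fun y hy k hk h => heigD d₁ hd₁D w₀ y hy k hk h, fun W hv hu hW d hd => ?_⟩
    rcases hD2 d hd with h | h
    · exact hmemU W hW w₀ heig 1 (by rwa [one_smul]) d (by simpa using h)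
    · exact hmemU W hW w₀ heig d₁ hu d h
  push Not at hD2
  obtain ⟨x₂, hx₂, hx₂U, hx₂U'⟩ := hD2
  set d₂ := x₂ ^ m with hd₂
  have hd₂D : d₂ ∈ D := pow_mem hx₂ m
  have hd₂sq : d₂ * d₂ = ε := by
    rw [hd₂, ← pow_add, ← two_mul, ← show n = 2 * m from hnm]; exact hout x₂ hx₂ hx₂U
  have hd₂U' : d₁⁻¹ * d₂ ∉ U := fun h => by
    obtain ⟨l, hl⟩ := hm
    have h1 : (x₂ * x₂) ^ l ∈ U := pow_mem (hsqU x₂ hx₂) l
    apply hx₂U'
    have h4 : d₂ = x₂ * (x₂ * x₂) ^ l := by rw [hd₂, hl, pow_succ', pow_mul, pow_two]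
    rw [h4, ← mul_assoc] at h
    exact (Subgroup.mul_mem_cancel_right U h1).1 h
  have hd₂U : d₂ ∉ U := fun h => by
    obtain ⟨l, hl⟩ := hm
    have h1 : (x₂ * x₂) ^ l ∈ U := pow_mem (hsqU x₂ hx₂) l
    rw [hd₂, hl, pow_succ, pow_mul, pow_two] at h
    exact hx₂U ((Subgroup.mul_mem_cancel_left U h1).1 h)
  have h12U : d₁ * d₂ ∉ U := fun h => hd₂U' (by
    have h2 : d₁ * d₁ ∈ U := hsqU d₁ hd₁D
    have := mul_mem (inv_mem h2) h
    rwa [mul_inv_rev, mul_assoc, inv_mul_cancel_left] at this)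
  set δ := n.choose 2
  have hδodd : ⁅d₂, d₁⁆ ^ δ = ε := by
    have h1 := hch d₁ d₂
    rw [hout _ (mul_mem hd₁D hd₂D) h12U, hout _ hd₁D hd₁U, hout _ hd₂D hd₂U, hεsq, one_mul] at h1
    exact h1.symm
  have hγ : ⁅d₂, d₁⁆ = ε := by
    refine hεuniq _ (hc _ _) ?_ fun h => hεne (by rw [← hδodd, h, one_pow])
    rw [← commutatorElement_pow_left hcl, pow_two, hd₂sq]
    exact commutatorElement_eq_one_iff_mul_comm.2 (Subgroup.mem_center_iff.1 hεC d₁).symm
  have hfour : ∀ d ∈ D, d ∈ U ∨ d₁⁻¹ * d ∈ U ∨ d₂⁻¹ * d ∈ U ∨ (d₁ * d₂)⁻¹ * d ∈ U := by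
    intro d hd
    by_contra hcon
    push Not at hcon
    obtain ⟨h0, h1, h2, h3⟩ := hcon
    have hv : ∀ e ∈ D, e⁻¹ * d ∉ U → e * e ∈ U → (e * d) ^ n = ε := fun e he hne hee => by
      refine hout _ (mul_mem he hd) fun h => hne ?_
      have := mul_mem (inv_mem hee) h
      rwa [mul_inv_rev, mul_assoc, inv_mul_cancel_left] at this
    have a1 := hch d₁ d
    have a2 := hch d₂ d
    have a3 := hch (d₁ * d₂) d
    rw [hv d₁ hd₁D h1 (hsqU _ hd₁D), hout _ hd₁D hd₁U, hout _ hd h0, hεsq, one_mul] at a1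
    rw [hv d₂ hd₂D h2 (hsqU _ hd₂D), hout _ hd₂D hd₂U, hout _ hd h0, hεsq, one_mul] at a2
    rw [hv _ (mul_mem hd₁D hd₂D) h3 (hsqU _ (mul_mem hd₁D hd₂D)), hout _ (mul_mem hd₁D hd₂D) h12U, hout _ hd h0,
      hεsq, one_mul, commutatorElement_mul_right hcl, (show Commute ⁅d, d₁⁆ ⁅d, d₂⁆ from
        (Subgroup.mem_center_iff.1 (hc d d₂) _)).mul_pow, ← a1, ← a2, hεsq] at a3
    exact hεne a3
  -- the sign
  have hεneg : ∀ w : V, ε • w = -w := fun w => by
    by_contra h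
    have h1 : ε • w + w ≠ 0 := fun h0 => h (eq_neg_of_add_eq_zero_left h0)
    exact hεne (hfpf ε hεC _ h1 (by rw [smul_add, smul_smul, hεsq, one_smul, add_comm]))
  letI : Module (ZMod p) V := AddCommGroup.zmodModule hp
  have hsmul : ∀ (g : N) (c : ZMod p) (x : V), g • (c • x) = c • (g • x) := fun g c x =>
    ZMod.map_smul (DistribSMul.toAddMonoidHom V g) c x
  obtain ⟨a, b, hab2, hb⟩ : ∃ a b : ZMod p, a ^ 2 + b ^ 2 = -1 ∧ b ≠ 0 := by
    obtain ⟨a, b, h⟩ := ZMod.sq_add_sq p (-1)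
    by_cases hb : b = 0
    · refine ⟨b, a, by rw [add_comm]; exact h, fun ha => ?_⟩
      rw [ha, hb] at h
      simp at h
    · exact ⟨a, b, h, hb⟩
  let E : V → V := fun w => a • d₁ • w + b • d₂ • w
  have hd12 : ∀ w : V, d₂ • d₁ • w = -(d₁ • d₂ • w) := fun w => by
    rw [← hεneg, smul_smul, smul_smul, smul_smul, ← hγ, commutatorElement_def]
    congr 1
    group
  have hEE : ∀ w, E (E w) = w := fun w => by
    simp only [E, smul_add, hsmul, hd12]
    rw [smul_smul d₁ d₁, smul_smul d₂ d₂, hd₁sq, hd₂sq, hεneg]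
    simp only [smul_neg, smul_smul]
    have h1 : (a * a + b * b) • w = -w := by
      rw [← pow_two, ← pow_two, hab2, neg_smul, one_smul]
    rw [add_smul] at h1
    rw [mul_comm b a]
    have h2 : -((a * a) • w) + (a * b) • (d₁ * d₂) • w + (-((a * b) • (d₁ * d₂) • w) + -((b * b) • w)) = w := by
      rw [show -((a * a) • w) + (a * b) • (d₁ * d₂) • w + (-((a * b) • (d₁ * d₂) • w) + -((b * b) • w)) =
        -((a * a) • w + (b * b) • w) by abel, h1, neg_neg]
    exact h2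
  have heigE : ∀ y ∈ U, ∀ k ∈ Subgroup.center N, y • w₀ = k • w₀ → y • E w₀ = k • E w₀ := fun y hy k hk h => by
    simp only [E, smul_add, hsmul, heigD d₁ hd₁D w₀ y hy k hk h, heigD d₂ hd₂D w₀ y hy k hk h]
  obtain ⟨v₀, hv₀, heig₀, s, hs⟩ : ∃ v₀ : V, v₀ ≠ 0 ∧ (∀ y ∈ U, ∀ k ∈ Subgroup.center N,
      y • w₀ = k • w₀ → y • v₀ = k • v₀) ∧ ∃ s : ZMod p, E v₀ = s • v₀ := by
    by_cases h0 : w₀ + E w₀ = 0
    · exact ⟨w₀, hw₀, fun y _ k _ h => h, -1, by rw [neg_smul, one_smul]; exact eq_neg_of_add_eq_zero_right h0⟩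
    · refine ⟨w₀ + E w₀, h0, fun y hy k hk h => by rw [smul_add y w₀, smul_add k w₀, h, heigE y hy k hk h], 1, ?_⟩
      have hEadd : ∀ x y, E (x + y) = E x + E y := fun x y => by
        simp only [E, smul_add]
        abel
      rw [hEadd, hEE, one_smul, add_comm]
  have heigv : ∀ y ∈ U, ∃ k ∈ Subgroup.center N, y • v₀ = k • v₀ := fun y hy => by
    obtain ⟨k, hk, h⟩ := heig y hy
    exact ⟨k, hk, heig₀ y hy k hk h⟩
  refine ⟨v₀, d₁ • v₀, hv₀, heigv, fun y hy k hk h => heigD d₁ hd₁D v₀ y hy k hk h, fun W hv hu hW d hd => ?_⟩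
  have hWc : ∀ (c : ZMod p) (w : V), w ∈ W → c • w ∈ W := fun c w hw => ZMod.smul_mem hw c
  have h2 : d₂ • v₀ = b⁻¹ • (s • v₀ - a • d₁ • v₀) := by
    rw [← hs]
    simp only [E, add_sub_cancel_left]
    rw [smul_smul, inv_mul_cancel₀ hb, one_smul]
  have hu2 : d₂ • v₀ ∈ W := by
    rw [h2]; exact hWc _ _ (sub_mem (hWc _ _ hv) (hWc _ _ hu))
  have hu12 : (d₁ * d₂) • v₀ ∈ W := by
    rw [mul_smul, h2, hsmul, smul_sub, hsmul, hsmul, smul_smul d₁ d₁, hd₁sq, hεneg, smul_neg, sub_neg_eq_add]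
    exact hWc _ _ (add_mem (hWc _ _ hu) (hWc _ _ hv))
  rcases hfour d hd with h | h | h | h
  · exact hmemU W hW v₀ heigv 1 (by rwa [one_smul]) d (by simpa using h)
  · exact hmemU W hW v₀ heigv d₁ hu d h
  · exact hmemU W hW v₀ heigv d₂ hu2 d h
  · exact hmemU W hW v₀ heigv _ hu12 d h

end Cfsg.Lib.SolvBase
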